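import Cfsg.Agent.Char.OddIndexReal
import Cfsg.Agent.Char.Inflation
import Cfsg.Agent.Char.Values
import Cfsg.Agent.GlaubermanCorr.Main
import Mathlib.GroupTheory.Sylow

/-!
# Groups whose real irreducible characters have degree prime to `p`
-/

set_option autoImplicit false
set_option linter.style.haveILetI false
set_option linter.ambiguousOpen false

namespace CfsgLib.RealDegree

open Subgroup
open scoped ComplexConjugate

universe u v

/-- The subgroup generated by the `p`-elements. -/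
abbrev genBy (p : ℕ) (G : Type u) [Group G] : Subgroup G :=
  closure {g : G | ∃ k : ℕ, orderOf g = p ^ k}

/-- Every real irreducible character has degree prime to `p`. -/
def RealPrime (p : ℕ) (G : Type u) [Group G] : Prop :=
  ∀ χ : G → ℂ, Cfsg.IsIrrCharacter G χ → (∀ g, (χ g).im = 0) → ∀ d : ℕ, χ 1 = d → ¬ p ∣ d

variable {G : Type u} [Group G] {p : ℕ}

theorem realPrime_of_charDegree
    (h : ∀ χ : Cfsg.IrrCharacter G, (∀ g : G, ((χ : G → ℂ) g).im = 0) →
      ¬ p ∣ Cfsg.charDegree (χ : G → ℂ)) : RealPrime p G := by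
  intro χ hχ hr d hd
  rw [GlaubermanCorr.cast_charDegree (Char.IsIrrCharacter.isCharacter hχ), Nat.cast_inj] at hd
  exact hd ▸ h ⟨χ, hχ⟩ hr

theorem mem_genBy {g : G} {k : ℕ} (h : orderOf g = p ^ k) : g ∈ genBy p G :=
  subset_closure ⟨k, h⟩

instance genBy_normal (p : ℕ) : (genBy p G).Normal := by
  refine ⟨fun n hn g => ?_⟩
  refine closure_induction (p := fun x _ => g * x * g⁻¹ ∈ genBy p G) ?_ ?_ ?_ ?_ hn
  · rintro x ⟨k, hk⟩
    refine mem_genBy (k := k) ?_
    rw [← hk]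
    exact orderOf_injective (MulAut.conj g).toMonoidHom (MulAut.conj g).injective x
  · simp
  · intro x y _ _ hx hy
    simpa using mul_mem hx hy
  · intro x _ hx
    simpa [mul_assoc] using inv_mem hx

theorem sylow_le_genBy [Finite G] [Fact p.Prime] (P : Sylow p G) : (P : Subgroup G) ≤ genBy p G := by
  intro x hx
  obtain ⟨k, hk⟩ := IsPGroup.iff_orderOf.1 P.isPGroup' ⟨x, hx⟩
  exact mem_genBy (k := k) (by rwa [← Subgroup.orderOf_mk x hx])

theorem genBy_index_not_dvd [Finite G] [Fact p.Prime] : ¬ p ∣ (genBy p G).index := by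
  obtain ⟨P⟩ := (inferInstance : Nonempty (Sylow p G))
  exact fun h => P.not_dvd_index (h.trans (index_dvd_of_le (sylow_le_genBy P)))

theorem genBy_two_index_odd [Finite G] : Odd (genBy 2 G).index := by
  have : Fact (Nat.Prime 2) := ⟨Nat.prime_two⟩
  exact Nat.not_even_iff_odd.1 fun h => genBy_index_not_dvd (G := G) (p := 2) (even_iff_two_dvd.1 h)

theorem map_genBy_le [Fact p.Prime] {H : Type v} [Group H] (f : G →* H) :
    (genBy p G).map f ≤ genBy p H := by
  rw [MonoidHom.map_closure, closure_le]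
  rintro _ ⟨x, ⟨k, hk⟩, rfl⟩
  obtain ⟨j, -, hj⟩ := (Nat.dvd_prime_pow Fact.out).1 (hk ▸ orderOf_map_dvd f x)
  exact mem_genBy hj

theorem genBy_map [Fact p.Prime] [Finite G] {H : Type v} [Group H] (f : G →* H)
    (hf : Function.Surjective f) : (genBy p G).map f = genBy p H := by
  refine le_antisymm (map_genBy_le f) ?_
  rw [closure_le]
  rintro y ⟨j, hj⟩
  obtain ⟨x, rfl⟩ := hf y
  obtain ⟨e, m, hm, hord⟩ :=
    Nat.exists_eq_pow_mul_and_not_dvd (orderOf_pos x).ne' p (Fact.out : p.Prime).ne_one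
  have hcop : Nat.Coprime (orderOf (f x)) m := by
    rw [hj]
    exact ((Fact.out : p.Prime).coprime_iff_not_dvd.2 hm).pow_left j
  have hz : f (x ^ m) ∈ (genBy p G).map f := by
    refine mem_map_of_mem f ?_
    have hd : orderOf (x ^ m) ∣ p ^ e := orderOf_dvd_of_pow_eq_one (by
      rw [← pow_mul, mul_comm, ← hord, pow_orderOf_eq_one])
    obtain ⟨k, -, hk⟩ := (Nat.dvd_prime_pow Fact.out).1 hd
    exact mem_genBy hk
  obtain ⟨r, hr⟩ := exists_pow_eq_self_of_coprime hcop.symm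
  rw [map_pow] at hz
  rw [SetLike.mem_coe, ← hr]
  exact pow_mem hz r

theorem genBy_subtype [Fact p.Prime] {U : Subgroup G} (h : genBy p G ≤ U) :
    (genBy p ↥U).map U.subtype = genBy p G := by
  refine le_antisymm (map_genBy_le _) ?_
  rw [closure_le]
  rintro x ⟨k, hk⟩
  exact ⟨⟨x, h (mem_genBy hk)⟩, mem_genBy (k := k) (by rwa [Subgroup.orderOf_mk]), rfl⟩

theorem solvable_genBy_subgroup [Fact p.Prime] (U : Subgroup G)
    (h : Group.IsSolvable ↥(genBy p G)) : Group.IsSolvable ↥(genBy p ↥U) := by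
  haveI := h
  let f : ↥(genBy p ↥U) →* ↥(genBy p G) :=
    { toFun := fun x => ⟨((x : ↥U) : G), map_genBy_le U.subtype (mem_map_of_mem _ x.2)⟩
      map_one' := rfl
      map_mul' := fun _ _ => rfl }
  exact Group.isSolvable_of_isSolvable_injective (f := f) fun a b hab =>
    Subtype.ext (Subtype.ext (congrArg (fun z : ↥(genBy p G) => (z : G)) hab))

theorem solvable_genBy_quotient [Fact p.Prime] [Finite G] (N : Subgroup G) [N.Normal]
    (h : Group.IsSolvable ↥(genBy p G)) : Group.IsSolvable ↥(genBy p (G ⧸ N)) := by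
  haveI := h
  rw [← genBy_map (QuotientGroup.mk' N) (QuotientGroup.mk'_surjective N)]
  exact Group.isSolvable_of_surjective ((QuotientGroup.mk' N).subgroupMap_surjective (genBy p G))

theorem RealPrime.quotient (h : RealPrime p G) (N : Subgroup G) [N.Normal] :
    RealPrime p (G ⧸ N) := by
  intro χ hχ hr d hd
  refine h _ (Char.IsIrrCharacter.comp_surjective hχ (QuotientGroup.mk' N)
    (QuotientGroup.mk'_surjective N)) (fun g => hr _) d ?_
  rw [map_one, hd]

open CfsgLib.Char in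
/-- A real character of a normal subgroup of odd index lies under a real character. -/
theorem exists_real_over [Fintype G] {N : Subgroup G} [N.Normal] [Fintype N]
    (hodd : Odd N.index) {θ : N → ℂ} (hθ : Cfsg.IsIrrCharacter N θ) (hr : ∀ n, (θ n).im = 0) :
    ∃ χ : G → ℂ, Cfsg.IsIrrCharacter G χ ∧ (∀ g, (χ g).im = 0) ∧
      Cfsg.classInner (fun n : N => χ n) θ ≠ 0 := by
  classical
  by_contra! hall
  have hne : (Nat.card N : ℂ)⁻¹ * ∑ n : N, θ (n * n) ≠ 0 := by
    rcases IsIrrCharacter.fs_indicator hθ with ⟨⟨n, hn⟩, -⟩ | ⟨-, h | ⟨h, -⟩⟩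
    · exact absurd (hr n) hn
    · rw [h]; exact one_ne_zero
    · rw [h]; norm_num
  apply hne
  rw [← OddIndex.indicator_indFun hodd θ]
  have hsum : ∀ g : G, Cfsg.indFun N θ (g * g) =
      ∑ χ ∈ irrFinset G, Cfsg.classInner (Cfsg.indFun N θ) χ * χ (g * g) := fun g => by
    conv_lhs => rw [eq_sum_irr (isClassFunction_indFun N θ)]
    simp [Finset.sum_apply, Pi.smul_apply]
  simp only [hsum]
  rw [Finset.sum_comm, Finset.mul_sum]
  refine Finset.sum_eq_zero fun χ hχ => ?_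
  rw [← Finset.mul_sum, ← mul_assoc, mul_comm (Nat.card G : ℂ)⁻¹, mul_assoc]
  have hχ' := mem_irrFinset.1 hχ
  rcases IsIrrCharacter.fs_indicator hχ' with ⟨-, h⟩ | ⟨hχr, -⟩
  · rw [h, mul_zero]
  · rw [classInner_indFun θ (IsIrrCharacter.isClassFunction hχ'), ← classInner_conj,
      hall χ hχ' hχr, map_zero, zero_mul]

open CfsgLib.Char in
theorem RealPrime.dvd_of_under [Fintype G] {N : Subgroup G} [N.Normal] [Fintype N]
    (h : RealPrime p G) (hodd : Odd N.index) {θ : N → ℂ} (hθ : Cfsg.IsIrrCharacter N θ)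
    (hr : ∀ n, (θ n).im = 0) {d : ℕ} (hd : θ 1 = d) : ¬ p ∣ d * (inertia θ).index := by
  classical
  obtain ⟨χ, hχ, hχr, hc⟩ := exists_real_over hodd hθ hr
  obtain ⟨e, he⟩ := IsCharacter.exists_classInner_eq_natCast
    (IsCharacter.restrict (IsIrrCharacter.isCharacter hχ) N) hθ
  have h1 := degree_eq_mul hχ hθ hc
  rw [he, hd, ← Nat.cast_mul, ← Nat.cast_mul] at h1
  exact fun hp => h χ hχ hχr _ h1 (by rw [mul_assoc, mul_comm _ d]; exact hp.mul_left e)

theorem RealPrime.subgroup [Finite G] (h : RealPrime p G) {N : Subgroup G} [N.Normal]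
    (hodd : Odd N.index) : RealPrime p ↥N := by
  classical
  have := Fintype.ofFinite G
  intro θ hθ hr d hd hp
  exact h.dvd_of_under hodd hθ hr hd (hp.mul_right _)

/-- A linear character of a normal subgroup is fixed by an element. -/
def Fixes {N : Subgroup G} [N.Normal] (μ : ↥N →* ℂˣ) (g : G) : Prop :=
  ∀ n : ↥N, μ (MulAut.conjNormal g n) = μ n

theorem mem_inertia_hom {N : Subgroup G} [N.Normal] (μ : ↥N →* ℂˣ) (g : G) :
    g ∈ Char.inertia (fun n : ↥N => (μ n : ℂ)) ↔ Fixes μ g := by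
  rw [Char.mem_inertia_iff]
  exact forall_congr' fun n => Units.val_inj

/-- An element normalizing `T` does not change induced functions. -/
theorem indFun_conj_arg [Fintype G] (T : Subgroup G) (θ θ' : T → ℂ) (σ : G ≃* G)
    (hσ : ∀ t, σ t ∈ T ↔ t ∈ T) (hθ : ∀ t : T, θ ⟨σ t, (hσ t).2 t.2⟩ = θ' t) (g : G) :
    Cfsg.indFun T θ (σ g) = Cfsg.indFun T θ' g := by
  classical
  rw [Char.indFun_def, Char.indFun_def]
  congr 1
  refine (Fintype.sum_equiv σ.toEquiv _ _ fun x => ?_).symm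
  show _ = Cfsg.extendByZero T θ ((σ x)⁻¹ * σ g * σ x)
  rw [← map_inv, ← map_mul, ← map_mul, Char.extendByZero_eq, Char.extendByZero_eq]
  by_cases h : x⁻¹ * g * x ∈ T
  · rw [dif_pos h, dif_pos ((hσ _).2 h), ← hθ]
  · rw [dif_neg h, dif_neg fun h' => h ((hσ _).1 h')]

/-- A linear character extends to the product with a complementing subgroup fixing it. -/
theorem exists_extension {N A : Subgroup G} [N.Normal] (μ : ↥N →* ℂˣ) (hA : ∀ a ∈ A, Fixes μ a)
    (hdisj : N ⊓ A = ⊥) :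
    ∃ f : ↥(N ⊔ A) →* ℂˣ, ∀ (n : ↥N) (a : ↥A),
      f ⟨(n : G) * a, mul_mem (mem_sup_left n.2) (mem_sup_right a.2)⟩ = μ n := by
  classical
  have hex : ∀ y : ↥(N ⊔ A), ∃ na : ↥N × ↥A, (na.1 : G) * na.2 = y := fun y => by
    obtain ⟨n, hn, a, ha, h⟩ := (Subgroup.mem_sup_of_normal_left).1 y.2
    exact ⟨(⟨n, hn⟩, ⟨a, ha⟩), h⟩
  choose d hd using hex
  have huniq : ∀ (n : ↥N) (a : ↥A) (y : ↥(N ⊔ A)), (n : G) * a = y → (d y).1 = n := by
    intro n a y h
    have h1 : ((d y).1 : G)⁻¹ * n = (d y).2 * (a : G)⁻¹ := by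
      rw [eq_mul_inv_iff_mul_eq, mul_assoc, inv_mul_eq_iff_eq_mul, h, hd]
    have h2 : ((d y).1 : G)⁻¹ * n ∈ N ⊓ A :=
      Subgroup.mem_inf.2 ⟨N.mul_mem (N.inv_mem (d y).1.2) n.2, by rw [h1]; exact A.mul_mem (d y).2.2 (A.inv_mem a.2)⟩
    rw [hdisj, mem_bot, inv_mul_eq_one] at h2
    exact Subtype.ext h2
  refine ⟨MonoidHom.mk' (fun y => μ (d y).1) fun y z => ?_, fun n a => ?_⟩
  · show μ _ = μ _ * μ _
    rw [huniq ((d y).1 * MulAut.conjNormal ((d y).2 : G) (d z).1) ((d y).2 * (d z).2) (y * z) ?_,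
      map_mul, hA _ (d y).2.2]
    simp only [Subgroup.coe_mul, MulAut.conjNormal_apply, ← hd y, ← hd z]
    group
  · exact congrArg μ (huniq n a _ rfl)

open CfsgLib.Char in
/-- A real character over an inverted linear character. -/
theorem exists_real_over_inverted [Fintype G] {N A : Subgroup G} [N.Normal] [Fintype N]
    (μ : ↥N →* ℂˣ) (hA : ∀ a ∈ A, Fixes μ a) (hdisj : N ⊓ A = ⊥) (s : G)
    (hs : ∀ n, μ (MulAut.conjNormal s n) = (μ n)⁻¹) (hsA : ∀ a, s * a * s⁻¹ ∈ A ↔ a ∈ A)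
    (hodd : Odd ((N ⊔ A).relIndex (inertia fun n : ↥N => (μ n : ℂ)))) :
    ∃ χ : G → ℂ, Cfsg.IsIrrCharacter G χ ∧ (∀ g, (χ g).im = 0) ∧
      ∀ d : ℕ, χ 1 = d → (inertia fun n : ↥N => (μ n : ℂ)).index ∣ d ∧
      Cfsg.classInner (fun n : N => χ n) (fun n : ↥N => (μ n : ℂ)) ≠ 0 := by
  classical
  have hθ : Cfsg.IsIrrCharacter N (fun n : ↥N => (μ n : ℂ)) := isIrrCharacter_ofHom μ
  obtain ⟨T, hT⟩ : ∃ T, inertia (fun n : ↥N => (μ n : ℂ)) = T := ⟨_, rfl⟩
  have hTm : ∀ g, g ∈ T ↔ Fixes μ g := fun g => hT ▸ mem_inertia_hom μ g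
  have hNT : N ≤ T := hT ▸ le_inertia (IsIrrCharacter.isClassFunction hθ)
  have hYT : N ⊔ A ≤ T := sup_le hNT fun a ha => (hTm a).2 (hA a ha)
  -- the inverting element normalizes `T` and its square lies in `T`
  have hs2 : s * s ∈ T := (hTm _).2 fun n => by
    rw [map_mul, MulAut.mul_apply, hs, hs, inv_inv]
  have hs' : ∀ n, μ (MulAut.conjNormal s⁻¹ n) = (μ n)⁻¹ := fun n => by
    have := hs (MulAut.conjNormal s⁻¹ n)
    rw [← MulAut.mul_apply, ← map_mul, mul_inv_cancel, map_one, MulAut.one_apply] at this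
    rw [this, inv_inv]
  have hsTm : ∀ t, s * t * s⁻¹ ∈ T ↔ t ∈ T := by
    intro t
    rw [hTm, hTm]
    constructor
    · intro h n
      have := h (MulAut.conjNormal s n)
      rw [← MulAut.mul_apply, ← map_mul, show s * t * s⁻¹ * s = s * t by group, map_mul,
        MulAut.mul_apply, hs, hs] at this
      simpa using this
    · intro h n
      rw [map_mul, map_mul, MulAut.mul_apply, MulAut.mul_apply, hs, h, hs', inv_inv]
  obtain ⟨f, hf⟩ := exists_extension μ hA hdisj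
  have hσY : ∀ y, MulAut.conj s y ∈ N ⊔ A ↔ y ∈ N ⊔ A := by
    intro y
    simp only [MulAut.conj_apply]
    constructor
    · intro h
      obtain ⟨n, hn, a, ha, h'⟩ := (mem_sup_of_normal_left).1 h
      have ha' : s⁻¹ * a * s ∈ A := (hsA _).1 (by simpa [mul_assoc] using ha)
      rw [show y = (s⁻¹ * n * s) * (s⁻¹ * a * s) by
        rw [show y = s⁻¹ * (s * y * s⁻¹) * s by group, ← h']; group]
      exact mul_mem (mem_sup_left (by simpa using ‹N.Normal›.conj_mem n hn s⁻¹)) (mem_sup_right ha')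
    · intro h
      obtain ⟨n, hn, a, ha, rfl⟩ := (mem_sup_of_normal_left).1 h
      rw [show s * (n * a) * s⁻¹ = (s * n * s⁻¹) * (s * a * s⁻¹) by group]
      exact mul_mem (mem_sup_left (‹N.Normal›.conj_mem n hn s)) (mem_sup_right ((hsA a).2 ha))
  have hfs : ∀ y : ↥(N ⊔ A), (f ⟨MulAut.conj s y, (hσY y).2 y.2⟩ : ℂ) = conj (f y : ℂ) := by
    intro y
    obtain ⟨n, hn, a, ha, h⟩ := (mem_sup_of_normal_left).1 y.2
    have e1 : y = ⟨(((⟨n, hn⟩ : ↥N)) : G) * ((⟨a, ha⟩ : ↥A) : G),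
        mul_mem (mem_sup_left hn) (mem_sup_right ha)⟩ := Subtype.ext h.symm
    have e2 : (⟨MulAut.conj s y, (hσY y).2 y.2⟩ : ↥(N ⊔ A)) =
        ⟨((MulAut.conjNormal s ⟨n, hn⟩ : ↥N) : G) * ((⟨s * a * s⁻¹, (hsA a).2 ha⟩ : ↥A) : G),
          mul_mem (mem_sup_left (MulAut.conjNormal s ⟨n, hn⟩).2) (mem_sup_right ((hsA a).2 ha))⟩ := by
      apply Subtype.ext
      simp only [MulAut.conj_apply, MulAut.conjNormal_apply, ← h]
      group
    rw [e2, hf, hs, conj_eq_inv_hom f y, map_inv, e1, hf]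
  -- conjugation by `s` on `T`
  let σ : ↥T ≃* ↥T :=
    { toFun := fun t => ⟨s * t * s⁻¹, (hsTm t).2 t.2⟩
      invFun := fun t => ⟨s⁻¹ * t * s, (hsTm _).1 (by simpa [mul_assoc] using t.2)⟩
      left_inv := fun t => Subtype.ext (by simp [mul_assoc])
      right_inv := fun t => Subtype.ext (by simp [mul_assoc])
      map_mul' := fun a b => Subtype.ext (by simp [mul_assoc]) }
  have := Fintype.ofFinite ↥T
  have := Fintype.ofFinite ↥(N ⊔ A)
  have := Fintype.ofFinite ↥((N ⊔ A).subgroupOf T)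
  let f' : ↥((N ⊔ A).subgroupOf T) →* ℂˣ :=
    f.comp (Subgroup.subgroupOfEquivOfLe hYT).toMonoidHom
  set φ : ↥T → ℂ := Cfsg.indFun ((N ⊔ A).subgroupOf T) (fun y => (f' y : ℂ)) with hφdef
  have hφ : Cfsg.IsCharacter ↥T φ := IsCharacter.indFun (isCharacter_ofHom f')
  have hσY' : ∀ t : ↥T, σ t ∈ (N ⊔ A).subgroupOf T ↔ t ∈ (N ⊔ A).subgroupOf T := fun t => by
    rw [mem_subgroupOf, mem_subgroupOf]
    exact hσY (t : G)
  have hφσ : ∀ t, φ (σ t) = conj (φ t) := fun t => by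
    rw [hφdef, indFun_conj_arg ((N ⊔ A).subgroupOf T) _ (fun y => conj (f' y : ℂ)) σ hσY'
      (fun y => hfs (Subgroup.subgroupOfEquivOfLe hYT y)), indFun_def, indFun_def, map_mul, map_inv₀,
      Complex.conj_natCast, map_sum]
    congr 1
    refine Finset.sum_congr rfl fun x _ => ?_
    rw [extendByZero_eq, extendByZero_eq]
    split_ifs <;> simp
  have hφ1 : φ 1 = (((N ⊔ A).relIndex T : ℕ) : ℂ) := by
    rw [hφdef, indFun_one, Subgroup.relIndex, map_one, Units.val_one, mul_one]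
  -- the involution on the irreducible characters of `T`
  let F : (↥T → ℂ) → (↥T → ℂ) := fun ψ t => conj (ψ (σ t))
  have hF : ∀ ψ, Cfsg.IsIrrCharacter ↥T ψ → Cfsg.IsIrrCharacter ↥T (F ψ) := fun ψ hψ =>
    IsIrrCharacter.conj (IsIrrCharacter.comp_surjective hψ σ.toMonoidHom σ.surjective)
  have hF2 : ∀ ψ, Cfsg.IsIrrCharacter ↥T ψ → F (F ψ) = ψ := fun ψ hψ => funext fun t => by
    show conj (conj (ψ (σ (σ t)))) = ψ t
    rw [Complex.conj_conj, show σ (σ t) = ⟨s * s, hs2⟩ * t * ⟨s * s, hs2⟩⁻¹ from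
      Subtype.ext (by simp only [σ, MulEquiv.coe_mk, Equiv.coe_fn_mk, Subgroup.coe_mul,
        Subgroup.coe_inv]; group)]
    exact IsIrrCharacter.isClassFunction hψ _ _
  have hFφ : ∀ ψ, Cfsg.IsIrrCharacter ↥T ψ →
      Cfsg.classInner φ (F ψ) = Cfsg.classInner φ ψ := fun ψ hψ => by
    obtain ⟨m, hm⟩ := IsCharacter.exists_classInner_eq_natCast hφ hψ
    have h1 : φ = fun t => conj (φ (σ t)) := funext fun t => by rw [hφσ, Complex.conj_conj]
    conv_lhs => rw [h1]
    rw [classInner_conj_conj (fun t => φ (σ t)) (fun t => ψ (σ t)), classInner_comp_mulEquiv σ,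
      ← classInner_conj, hm, Complex.conj_natCast]
  choose! a ha using fun ψ (hψ : ψ ∈ irrFinset ↥T) =>
    IsCharacter.exists_classInner_eq_natCast hφ (mem_irrFinset.1 hψ)
  choose! dg hdg using fun ψ (hψ : ψ ∈ irrFinset ↥T) =>
    IsCharacter.exists_degree (IsIrrCharacter.isCharacter (mem_irrFinset.1 hψ))
  have hsum : (N ⊔ A).relIndex T = ∑ ψ ∈ irrFinset ↥T, a ψ * dg ψ := by
    have h1 := congrFun (eq_sum_irr (IsCharacter.isClassFunction hφ)) 1
    rw [hφ1, Finset.sum_apply] at h1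
    apply Nat.cast_injective (R := ℂ)
    rw [h1, Nat.cast_sum]
    refine Finset.sum_congr rfl fun ψ hψ => ?_
    rw [Pi.smul_apply, smul_eq_mul, ha ψ hψ, hdg ψ hψ, Nat.cast_mul]
  obtain ⟨ψ, hψ, hψF, hψa⟩ : ∃ ψ ∈ irrFinset ↥T, F ψ = ψ ∧ a ψ ≠ 0 := by
    by_contra! hall
    have hev : (((N ⊔ A).relIndex T : ℕ) : ZMod 2) = 0 := by
      rw [hsum, Nat.cast_sum]
      refine Finset.sum_involution (fun ψ _ => F ψ) (fun ψ hψ => ?_)
        (fun ψ hψ hne0 h => hne0 (by rw [hall ψ hψ h, zero_mul, Nat.cast_zero]))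
        (fun ψ hψ => mem_irrFinset.2 (hF _ (mem_irrFinset.1 hψ)))
        (fun ψ hψ => hF2 _ (mem_irrFinset.1 hψ))
      have hψ' := mem_irrFinset.2 (hF _ (mem_irrFinset.1 hψ))
      have h1 := hFφ ψ (mem_irrFinset.1 hψ)
      rw [ha _ hψ', ha _ hψ, Nat.cast_inj] at h1
      have h2 : F ψ 1 = (dg ψ : ℂ) := by
        show conj (ψ (σ 1)) = _
        rw [map_one, hdg _ hψ, Complex.conj_natCast]
      rw [hdg _ hψ', Nat.cast_inj] at h2
      rw [h1, h2, CharTwo.add_self_eq_zero]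
    rw [ZMod.natCast_eq_zero_iff_even] at hev
    exact Nat.not_even_iff_odd.2 (hT ▸ hodd) hev
  have hψ' := mem_irrFinset.1 hψ
  -- `ψ` lies over `μ`
  have hover : Cfsg.classInner (fun n : N => ψ (Subgroup.inclusion hNT n))
      (fun n : ↥N => (μ n : ℂ)) ≠ 0 := by
    have h1 : Cfsg.classInner (fun y : ↥((N ⊔ A).subgroupOf T) => ψ y) (fun y => (f' y : ℂ)) ≠ 0 := by
      intro h0
      have h2 := ha ψ hψ
      rw [hφdef, classInner_indFun _ (IsIrrCharacter.isClassFunction hψ'), ← classInner_conj, h0,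
        map_zero] at h2
      exact hψa (by exact_mod_cast h2.symm)
    let ι : ↥N →* ↥((N ⊔ A).subgroupOf T) :=
      { toFun := fun n => ⟨Subgroup.inclusion hNT n, mem_subgroupOf.2 (mem_sup_left n.2)⟩
        map_one' := rfl
        map_mul' := fun _ _ => rfl }
    have hrest : Cfsg.IsCharacter N (fun n : N =>
        ((fun y : ↥((N ⊔ A).subgroupOf T) => ψ y) - fun y => (f' y : ℂ)) (ι n)) :=
      IsCharacter.comp (IsCharacter.sub_irr (IsCharacter.restrict
        (IsIrrCharacter.isCharacter hψ') _) (isIrrCharacter_ofHom f') h1) ι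
    obtain ⟨k, hk⟩ := IsCharacter.exists_classInner_eq_natCast hrest hθ
    have hfι : ∀ n : ↥N, (f' (ι n) : ℂ) = (μ n : ℂ) := fun n => by
      rw [show f' (ι n) = f ⟨(n : G) * ((1 : ↥A) : G), mul_mem (mem_sup_left n.2)
        (mem_sup_right (1 : ↥A).2)⟩ from congrArg f (Subtype.ext (mul_one (n : G)).symm), hf]
    have heq : (fun n : N => ψ (Subgroup.inclusion hNT n)) = (fun n : N =>
        ((fun y : ↥((N ⊔ A).subgroupOf T) => ψ y) - fun y => (f' y : ℂ)) (ι n)) +
          fun n : ↥N => (μ n : ℂ) := funext fun n => by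
      show ψ (Subgroup.inclusion hNT n) = ψ (Subgroup.inclusion hNT n) - (f' (ι n) : ℂ) + (μ n : ℂ)
      rw [hfι, sub_add_cancel]
    rw [heq, classInner_add_left, hk, IsIrrCharacter.classInner_self hθ,
      show (k : ℂ) + 1 = ((k + 1 : ℕ) : ℂ) by push_cast; rfl, Nat.cast_ne_zero]
    omega
  obtain ⟨hirr, hmul⟩ := isIrrCharacter_indFun_of_inertia hNT hθ hT hψ' hover
  refine ⟨_, hirr, fun g => ?_, fun d hd => ⟨?_, hmul ▸ hover⟩⟩
  · refine Complex.conj_eq_iff_im.1 ?_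
    have hstep : conj (Cfsg.indFun T ψ g) = Cfsg.indFun T (fun t => conj (ψ t)) g := by
      rw [indFun_def, indFun_def, map_mul, map_inv₀, Complex.conj_natCast, map_sum]
      congr 1
      refine Finset.sum_congr rfl fun x _ => ?_
      rw [extendByZero_eq, extendByZero_eq]
      split_ifs <;> simp
    rw [hstep, ← indFun_conj_arg T ψ (fun t => conj (ψ t)) (MulAut.conj s) hsTm fun t => ?_]
    · exact (isClassFunction_indFun T ψ) _ _
    · have := congrFun hψF t
      change conj (ψ (σ t)) = ψ t at this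
      rw [← this, Complex.conj_conj]
      rfl
  · obtain ⟨e, he⟩ := IsCharacter.exists_classInner_eq_natCast
      (IsCharacter.restrict (IsIrrCharacter.isCharacter hirr) N) hθ
    have h1 := degree_eq_mul hirr hθ (hmul ▸ hover)
    rw [he, hd, map_one, Units.val_one, mul_one, ← Nat.cast_mul, Nat.cast_inj] at h1
    exact h1 ▸ dvd_mul_left _ _

/-- A nontrivial character inverted by an element, when a 2-element acts nontrivially. -/
theorem exists_inverted [Finite G] {N : Subgroup G} [N.Normal]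
    (hab : ∀ a ∈ N, ∀ b ∈ N, a * b = b * a) {t : G} {k : ℕ} (ht : orderOf t = 2 ^ k)
    (hne : ∃ n ∈ N, t * n ≠ n * t) :
    ∃ (μ : ↥N →* ℂˣ) (s : G), μ ≠ 1 ∧ ∀ n, μ (MulAut.conjNormal s n) = (μ n)⁻¹ := by
  classical
  have hk : ∃ j, ∀ n ∈ N, t ^ 2 ^ j * n = n * t ^ 2 ^ j :=
    ⟨k, fun n _ => by rw [← ht, pow_orderOf_eq_one, one_mul, mul_one]⟩
  obtain ⟨j, hj, hmin⟩ : ∃ j, (∀ n ∈ N, t ^ 2 ^ (j + 1) * n = n * t ^ 2 ^ (j + 1)) ∧
      ¬ ∀ n ∈ N, t ^ 2 ^ j * n = n * t ^ 2 ^ j := by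
    have h0 : Nat.find hk ≠ 0 := fun h => by
      obtain ⟨n, hn, hne⟩ := hne
      have := Nat.find_spec hk n hn
      rw [h, pow_zero, pow_one] at this
      exact hne this
    exact ⟨Nat.find hk - 1, by rw [Nat.sub_add_cancel (Nat.one_le_iff_ne_zero.2 h0)]
                               exact Nat.find_spec hk, Nat.find_min hk (by omega)⟩
  push Not at hmin
  obtain ⟨n, hn, hnn⟩ := hmin
  set s := t ^ 2 ^ j with hs
  have hss : ∀ x : ↥N, MulAut.conjNormal s (MulAut.conjNormal s x) = x := fun x => by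
    apply Subtype.ext
    have := hj x x.2
    rw [pow_succ, pow_mul, pow_two] at this
    simp only [MulAut.conjNormal_apply]
    rw [show s * (s * x * s⁻¹) * s⁻¹ = s * s * x * (s * s)⁻¹ by group, this, mul_inv_cancel_right]
  set z : ↥N := ⟨n, hn⟩⁻¹ * MulAut.conjNormal s ⟨n, hn⟩ with hz
  have hz1 : z ≠ 1 := by
    rw [hz, Ne, inv_mul_eq_one]
    intro h
    exact hnn (eq_mul_inv_iff_mul_eq.1 (congrArg Subtype.val h)).symm
  letI : CommGroup ↥N :=
    { (inferInstance : Group ↥N) with mul_comm := fun a b => Subtype.ext (hab a a.2 b b.2) }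
  haveI : NeZero (Monoid.exponent ↥N : ℂ) :=
    ⟨Nat.cast_ne_zero.2 Monoid.exponent_ne_zero_of_finite⟩
  obtain ⟨lam, hlam⟩ := CommGroup.exists_apply_ne_one_of_hasEnoughRootsOfUnity ↥N ℂ hz1
  refine ⟨lam.comp (MulAut.conjNormal s).toMonoidHom / lam, s, fun h => hlam ?_, fun x => ?_⟩
  · have := DFunLike.congr_fun h ⟨n, hn⟩
    rw [MonoidHom.div_apply, MonoidHom.one_apply, div_eq_one] at this
    rw [hz, map_mul, map_inv]
    rw [show lam (MulAut.conjNormal s ⟨n, hn⟩) = lam ⟨n, hn⟩ from this, inv_mul_cancel]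
  · simp only [MonoidHom.div_apply, MonoidHom.comp_apply, MulEquiv.coe_toMonoidHom, hss, inv_div]

end CfsgLib.RealDegree
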