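import Cfsg.Agent.FGSB.RealDegree.Correspondence
import Cfsg.Agent.Char.OddIndexReal

/-!
# The bijection between real characters of a group and of its Sylow normaliser
-/

set_option autoImplicit false
set_option linter.style.haveILetI false
set_option linter.ambiguousOpen false

namespace CfsgLib.RealDegree

open Subgroup Cfsg
open scoped ComplexConjugate

universe u

variable {G : Type u} [Group G]

open CfsgLib.Char in
/-- A real character has a real constituent on a normal subgroup of odd index. -/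
theorem exists_real_constituent [Fintype G] {D : Subgroup G} [D.Normal] [Fintype D]
    (hodd : Odd D.index) {χ : G → ℂ} (hχ : Cfsg.IsIrrCharacter G χ) (hr : ∀ g, (χ g).im = 0) :
    ∃ θ : D → ℂ, Cfsg.IsIrrCharacter D θ ∧ (∀ k, (θ k).im = 0) ∧
      Cfsg.classInner (fun k : D => χ k) θ ≠ 0 := by
  classical
  obtain ⟨θ, hθ, hc⟩ := exists_constituent_restrict (N := D) hχ
  have hcard : Odd (conjOrbit θ).card := by
    rw [card_conjOrbit]
    exact hodd.of_dvd_nat (index_dvd_of_le (le_inertia (IsIrrCharacter.isClassFunction hθ)))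
  have hirr : ∀ ψ ∈ conjOrbit θ, Cfsg.IsIrrCharacter D ψ ∧
      Cfsg.classInner (fun k : D => χ k) ψ ≠ 0 := fun ψ hψ => by
    obtain ⟨g, rfl⟩ := mem_conjOrbit.1 hψ
    exact ⟨isIrrCharacter_conjOn hθ g, by
      rwa [classInner_restrict_conjOn (IsIrrCharacter.isClassFunction hχ)]⟩
  obtain ⟨ψ, hψ, hψr⟩ : ∃ ψ ∈ conjOrbit θ, (fun k => conj (ψ k)) = ψ := by
    by_contra! hall
    have hev : (((conjOrbit θ).card : ℕ) : ZMod 2) = 0 := by
      rw [Finset.card_eq_sum_ones, Nat.cast_sum]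
      refine Finset.sum_involution (fun ψ _ => fun k => conj (ψ k))
        (fun ψ _ => by rw [Nat.cast_one, CharTwo.add_self_eq_zero])
        (fun ψ hψ _ => hall ψ hψ) (fun ψ hψ => ?_) (fun ψ _ => funext fun k => Complex.conj_conj _)
      refine mem_conjOrbit_of_constituent hχ hθ (IsIrrCharacter.conj (hirr ψ hψ).1) hc ?_
      rw [show (fun k : D => χ k) = fun k : D => conj (χ k) from
        funext fun k => (Complex.conj_eq_iff_im.2 (hr k)).symm, classInner_conj_conj,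
        ← classInner_conj]
      exact (map_ne_zero _).2 (hirr ψ hψ).2
    rw [ZMod.natCast_eq_zero_iff_even] at hev
    exact Nat.not_even_iff_odd.2 hcard hev
  exact ⟨ψ, (hirr ψ hψ).1, fun k => Complex.conj_eq_iff_im.1 (congrFun hψr k), (hirr ψ hψ).2⟩

open CfsgLib.Char in
/-- The degree of a real character over a real character of a normal subgroup of odd index. -/
theorem degree_of_real_over [Fintype G] {D : Subgroup G} [D.Normal] [Fintype D]
    (hodd : Odd D.index) {θ : D → ℂ} (hθ : Cfsg.IsIrrCharacter D θ) (hθr : ∀ k, (θ k).im = 0)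
    {χ : G → ℂ} (hχ : Cfsg.IsIrrCharacter G χ) (hr : ∀ g, (χ g).im = 0)
    (hc : Cfsg.classInner (fun k : D => χ k) θ ≠ 0) : χ 1 = ((inertia θ).index : ℂ) * θ 1 := by
  classical
  obtain ⟨e, he⟩ := IsCharacter.exists_classInner_eq_natCast
    (IsCharacter.restrict (IsIrrCharacter.isCharacter hχ) D) hθ
  suffices e = 1 by
    rw [degree_eq_mul hχ hθ hc, he, this, Nat.cast_one, one_mul]
  have hsum : ∀ g : G, Cfsg.indFun D θ (g * g) =
      ∑ ρ ∈ irrFinset G, Cfsg.classInner (Cfsg.indFun D θ) ρ * ρ (g * g) := fun g => by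
    conv_lhs => rw [eq_sum_irr (isClassFunction_indFun D θ)]
    simp [Finset.sum_apply, Pi.smul_apply]
  have hmain : (e : ℂ) * ((Nat.card G : ℂ)⁻¹ * ∑ g : G, χ (g * g)) =
      (Nat.card D : ℂ)⁻¹ * ∑ n : D, θ (n * n) := by
    rw [← OddIndex.indicator_indFun hodd θ]
    simp only [hsum]
    rw [Finset.sum_comm]
    simp only [← Finset.mul_sum]
    rw [Finset.sum_eq_single_of_mem χ (mem_irrFinset.2 hχ) fun ρ hρ hne => ?_]
    · rw [classInner_indFun θ (IsIrrCharacter.isClassFunction hχ), ← classInner_conj, he,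
        Complex.conj_natCast]
      ring
    · have hρ' := mem_irrFinset.1 hρ
      rcases IsIrrCharacter.fs_indicator hρ' with ⟨-, h⟩ | ⟨hρr, -⟩
      · rw [(mul_eq_zero.1 h).resolve_left
          (inv_ne_zero (Nat.cast_ne_zero.2 Nat.card_pos.ne')), mul_zero]
      · have h0 : Cfsg.classInner (fun k : D => ρ k) θ = 0 := by
          by_contra h
          exact hne (OddIndex.eq_of_real hodd hρ' hχ hρr hr hθ h hc)
        rw [classInner_indFun θ (IsIrrCharacter.isClassFunction hρ'), ← classInner_conj, h0,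
          map_zero, zero_mul]
  rcases IsIrrCharacter.fs_indicator hθ with ⟨⟨n, hn⟩, -⟩ | ⟨-, h | ⟨h, -⟩⟩
  · exact absurd (hθr n) hn
  all_goals
    rw [h] at hmain
    rcases IsIrrCharacter.fs_indicator hχ with ⟨⟨g, hg⟩, -⟩ | ⟨-, h' | ⟨h', -⟩⟩
    · exact absurd (hr g) hg
    all_goals
      rw [h'] at hmain
      first
        | exact_mod_cast (by linear_combination hmain : (e : ℂ) = 1)
        | exact_mod_cast (by linear_combination -hmain : (e : ℂ) = 1)
        | (exfalso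
           have h2 : ((e + 1 : ℕ) : ℂ) = 0 := by push_cast; linear_combination hmain
           exact Nat.succ_ne_zero e (Nat.cast_eq_zero.1 h2))
        | (exfalso
           have h2 : ((e + 1 : ℕ) : ℂ) = 0 := by push_cast; linear_combination -hmain
           exact Nat.succ_ne_zero e (Nat.cast_eq_zero.1 h2))

/-- A subgroup of index prime to `p` contains a conjugate of each Sylow subgroup. -/
theorem exists_conj_le_of_not_dvd {p : ℕ} [hp : Fact p.Prime] [Finite G] (P : Sylow p G)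
    (T : Subgroup G) (h : ¬ p ∣ T.index) : ∃ g : G, ∀ y ∈ (P : Subgroup G), g * y * g⁻¹ ∈ T := by
  obtain ⟨R⟩ := (inferInstance : Nonempty (Sylow p ↥T))
  have hR : ¬ p ∣ ((R : Subgroup ↥T).map T.subtype).index := by
    rw [index_map_subtype]
    exact fun h' => (hp.out.dvd_mul.1 h').elim R.not_dvd_index h
  obtain ⟨g, hg⟩ := MulAction.exists_smul_eq G P ((R.isPGroup'.map T.subtype).toSylow hR)
  refine ⟨g, fun y hy => ?_⟩
  have h1 : g * y * g⁻¹ ∈ (((R.isPGroup'.map T.subtype).toSylow hR : Sylow p G) : Subgroup G) := by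
    rw [← hg, Sylow.coe_subgroup_smul, mem_pointwise_smul_iff_inv_smul_mem]
    simpa [mul_assoc] using hy
  obtain ⟨r, -, hr⟩ := h1
  exact hr ▸ r.2

set_option maxHeartbeats 1600000 in
open CfsgLib.Char in
/-- Real characters of `G` and real `p'`-degree characters of the Sylow normaliser correspond. -/
theorem exists_real_bijection {p : ℕ} [hp : Fact p.Prime] [Finite G]
    (hsol : Group.IsSolvable ↥(genBy p G)) (hreal : RealPrime p G) (P : Sylow p G)
    (N : Subgroup G) (hN : N = normalizer ((P : Subgroup G) : Set G)) :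
    ∃ f : {χ : IrrCharacter G // ∀ g : G, ((χ : G → ℂ) g).im = 0} →
        {ξ : IrrCharacter ↥N // (∀ n, ((ξ : ↥N → ℂ) n).im = 0) ∧ ¬ p ∣ charDegree (ξ : ↥N → ℂ)},
      Function.Bijective f ∧ ∀ χ, ((charDegree ((f χ).1 : ↥N → ℂ) : ZMod p) =
        (charDegree (χ.1 : G → ℂ) : ZMod p) ∨ (charDegree ((f χ).1 : ↥N → ℂ) : ZMod p) =
        -(charDegree (χ.1 : G → ℂ) : ZMod p)) := by
  classical
  haveI := Fintype.ofFinite G
  haveI : Fact (Nat.Prime 2) := ⟨Nat.prime_two⟩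
  obtain ⟨K, hKdef⟩ : ∃ K, K = genBy 2 G := ⟨_, rfl⟩
  haveI hKn : K.Normal := hKdef ▸ genBy_normal 2
  have hKodd : Odd K.index := hKdef ▸ genBy_two_index_odd
  have hidx : genBy 2 ↥K = ⊤ := by
    apply map_injective (subtype_injective K)
    rw [genBy_subtype (ge_of_eq hKdef), ← MonoidHom.range_eq_map, range_subtype, hKdef]
  obtain ⟨S⟩ := (inferInstance : Nonempty (Sylow p ↥K))
  have hSn := normal_sylow _ rfl (solvable_genBy_subgroup K hsol) (hreal.subgroup hKodd)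
    ⟨0, by rw [hidx, index_top, pow_zero]⟩ S
  haveI := Sylow.characteristic_of_normal S hSn
  obtain ⟨Q, hQ⟩ : ∃ Q, Q = (S : Subgroup ↥K).map K.subtype := ⟨_, rfl⟩
  haveI hQn : Q.Normal := hQ ▸ ConjAct.normal_of_characteristic_of_normal
  have hQP : Q ≤ (P : Subgroup G) := by
    have hpg : IsPGroup p ↥Q := hQ ▸ S.isPGroup'.map _
    obtain ⟨R, hR⟩ := hpg.exists_le_sylow
    obtain ⟨h, rfl⟩ := MulAction.exists_smul_eq G R P
    intro y hy
    rw [Sylow.coe_subgroup_smul, mem_pointwise_smul_iff_inv_smul_mem]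
    exact hR (by simpa using hQn.conj_mem y hy h⁻¹)
  have hsyl : ¬ p ∣ Q.relIndex K := by
    rw [hQ, relIndex, subgroupOf, comap_map_eq_self_of_injective K.subtype_injective]
    exact S.not_dvd_index
  obtain ⟨f, hfinj, hfrange, hfreal, hfconj, hfdeg⟩ :=
    exists_inertia_correspondence P K Q (hQ ▸ map_subtype_le _) hQP hsyl N hN
  obtain ⟨D, hD⟩ : ∃ D, D = K.subgroupOf N := ⟨_, rfl⟩
  subst hD
  have hDodd : Odd (K.subgroupOf N).index := hKodd.of_dvd_nat (relIndex_dvd_index_of_normal K N)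
  haveI := Fintype.ofFinite ↥K
  haveI := Fintype.ofFinite ↥N
  haveI := Fintype.ofFinite ↥(K.subgroupOf N)
  have hPN : (P : Subgroup G) ≤ N := hN ▸ le_normalizer
  -- fusion in the inertia group
  have hfus : ∀ (θ θ' : {θ : IrrCharacter ↥K // (P : Subgroup G) ≤ inertia (θ : ↥K → ℂ)}) (g : G),
      (θ'.1 : ↥K → ℂ) = conjOn g (θ.1 : ↥K → ℂ) →
      ∃ n : ↥N, (θ'.1 : ↥K → ℂ) = conjOn (n : G) (θ.1 : ↥K → ℂ) := by
    intro θ θ' g h
    have hgP : ((g • P : Sylow p G) : Subgroup G) ≤ inertia (θ.1 : ↥K → ℂ) := fun z hz => by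
      rw [Sylow.coe_subgroup_smul, mem_pointwise_smul_iff_inv_smul_mem] at hz
      have h1 : g⁻¹ * z * g ∈ (P : Subgroup G) := by simpa using hz
      have h2 := (mem_inertia (θ'.1 : ↥K → ℂ) _).1 (θ'.2 h1)
      rw [h, conjOn_conjOn, show g * (g⁻¹ * z * g) = z * g by group, ← conjOn_conjOn] at h2
      have h3 := congrArg (conjOn g⁻¹) h2
      rw [conjOn_conjOn, conjOn_conjOn, mul_inv_cancel, mul_one, conjOn_conjOn, mul_inv_cancel, conjOn_one] at h3
      exact (mem_inertia (θ.1 : ↥K → ℂ) z).2 h3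
    obtain ⟨t, ht⟩ := MulAction.exists_smul_eq ↥(inertia (θ.1 : ↥K → ℂ))
      ((g • P : Sylow p G).subtype hgP) (P.subtype θ.2)
    rw [Sylow.smul_subtype] at ht
    have htg : (t : G) * g ∈ N := by
      rw [hN]
      refine Sylow.smul_eq_iff_mem_normalizer.1 ?_
      rw [mul_smul]
      exact Sylow.subtype_injective ht
    refine ⟨⟨(t : G) * g, htg⟩, ?_⟩
    show _ = conjOn ((t : G) * g) _
    rw [← conjOn_conjOn, (mem_inertia (θ.1 : ↥K → ℂ) _).1 t.2, h]
  -- the inertia groups correspond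
  have hinert : ∀ θ, inertia (f θ : ↥(K.subgroupOf N) → ℂ) =
      (inertia (θ.1 : ↥K → ℂ)).subgroupOf N := fun θ => by
    ext n
    rw [mem_subgroupOf, mem_inertia, mem_inertia]
    exact ⟨fun h => ((hfconj n θ θ).2 h.symm).symm, fun h => ((hfconj n θ θ).1 h.symm).symm⟩
  have hindex : ∀ T : Subgroup G, (P : Subgroup G) ≤ T →
      (T.index : ZMod p) = ((T.subgroupOf N).index : ZMod p) := by
    intro T hT
    have h1 : (N.index : ZMod p) = 1 := by
      rw [hN]
      refine (congrArg Nat.cast (Sylow.card_eq_index_normalizer P).symm).trans ?_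
      exact ((ZMod.natCast_eq_natCast_iff _ _ _).2 (card_sylow_modEq_one p G)).trans Nat.cast_one
    have h2 : ((N.subgroupOf T).index : ZMod p) = 1 := by
      rw [hN, subgroupOf_normalizer_eq hT]
      rw [show normalizer (((P : Subgroup G).subgroupOf T) : Set ↥T) =
        normalizer (((P.subtype hT : Sylow p ↥T) : Subgroup ↥T) : Set ↥T) from rfl]
      refine (congrArg Nat.cast (Sylow.card_eq_index_normalizer (P.subtype hT)).symm).trans ?_
      exact ((ZMod.natCast_eq_natCast_iff _ _ _).2 (card_sylow_modEq_one p ↥T)).trans Nat.cast_one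
    have h3 : N.relIndex T * T.index = T.relIndex N * N.index := by
      rw [← inf_relIndex_right N T, relIndex_mul_index inf_le_right, ← inf_relIndex_right T N,
        relIndex_mul_index inf_le_right, inf_comm]
    have h4 := congrArg (fun x : ℕ => (x : ZMod p)) h3
    simp only [Nat.cast_mul, relIndex] at h4
    rw [h1, h2, one_mul, mul_one] at h4
    exact h4
  -- degrees
  have hdeg : ∀ (θ : {θ : IrrCharacter ↥K // (P : Subgroup G) ≤ inertia (θ : ↥K → ℂ)})
      (χ : G → ℂ) (ξ : ↥N → ℂ), (∀ k, ((θ.1 : ↥K → ℂ) k).im = 0) →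
      Cfsg.IsIrrCharacter G χ → (∀ g, (χ g).im = 0) → Cfsg.IsIrrCharacter ↥N ξ →
      (∀ g, (ξ g).im = 0) → classInner (fun k : ↥K => χ k) (θ.1 : ↥K → ℂ) ≠ 0 →
      classInner (fun k : ↥(K.subgroupOf N) => ξ k) (f θ : ↥(K.subgroupOf N) → ℂ) ≠ 0 →
      ((charDegree ξ : ZMod p) = (charDegree χ : ZMod p) ∨
        (charDegree ξ : ZMod p) = -(charDegree χ : ZMod p)) := by
    intro θ χ ξ hθr hχ hχr hξ hξr hc hc'
    obtain ⟨d, -, hd⟩ := IsIrrCharacter.exists_degree θ.1.2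
    obtain ⟨d', -, hd'⟩ := IsIrrCharacter.exists_degree (f θ).2
    have e1 : charDegree χ = (inertia (θ.1 : ↥K → ℂ)).index * d := Nat.cast_injective (R := ℂ) (by
      rw [← GlaubermanCorr.cast_charDegree (IsIrrCharacter.isCharacter hχ),
        degree_of_real_over hKodd θ.1.2 hθr hχ hχr hc, hd, Nat.cast_mul])
    have e2 : charDegree ξ = ((inertia (θ.1 : ↥K → ℂ)).subgroupOf N).index * d' :=
      Nat.cast_injective (R := ℂ) (by
      rw [← GlaubermanCorr.cast_charDegree (IsIrrCharacter.isCharacter hξ),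
        degree_of_real_over hDodd (f θ).2 ((hfreal θ).1 hθr) hξ hξr hc', hinert, hd', Nat.cast_mul])
    rw [e1, e2, Nat.cast_mul, Nat.cast_mul, ← hindex _ θ.2]
    rcases hfdeg θ d d' hd hd' with h | h <;> rw [h]
    · exact Or.inl rfl
    · exact Or.inr (by ring)
  -- the map
  have hex : ∀ χ : {χ : IrrCharacter G // ∀ g : G, ((χ : G → ℂ) g).im = 0},
      ∃ ξ : {ξ : IrrCharacter ↥N // (∀ n, ((ξ : ↥N → ℂ) n).im = 0) ∧ ¬ p ∣ charDegree (ξ : ↥N → ℂ)},
        ∃ θ : {θ : IrrCharacter ↥K // (P : Subgroup G) ≤ inertia (θ : ↥K → ℂ)},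
          (∀ k, ((θ.1 : ↥K → ℂ) k).im = 0) ∧
          classInner (fun k : ↥K => (χ.1 : G → ℂ) k) (θ.1 : ↥K → ℂ) ≠ 0 ∧
          classInner (fun k : ↥(K.subgroupOf N) => (ξ.1 : ↥N → ℂ) k)
            (f θ : ↥(K.subgroupOf N) → ℂ) ≠ 0 := by
    intro χ
    obtain ⟨θ0, hθ0, hθ0r, hc0⟩ := exists_real_constituent hKodd χ.1.2 χ.2
    obtain ⟨d0, -, hd0⟩ := IsIrrCharacter.exists_degree hθ0
    obtain ⟨g, hg⟩ := exists_conj_le_of_not_dvd P (inertia θ0)
      fun h => hreal.dvd_of_under hKodd hθ0 hθ0r hd0 (h.mul_left d0)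
    let θ : {θ : IrrCharacter ↥K // (P : Subgroup G) ≤ inertia (θ : ↥K → ℂ)} :=
      ⟨⟨conjOn g θ0, isIrrCharacter_conjOn hθ0 g⟩, fun y hy => by
        rw [mem_inertia]
        show conjOn y (conjOn g θ0) = conjOn g θ0
        rw [conjOn_conjOn, show g * y = (g * y * g⁻¹) * g by group, ← conjOn_conjOn,
          (mem_inertia θ0 _).1 (hg y hy)]⟩
    have hθr : ∀ k, ((θ.1 : ↥K → ℂ) k).im = 0 := fun k => hθ0r _
    have hc : classInner (fun k : ↥K => (χ.1 : G → ℂ) k) (θ.1 : ↥K → ℂ) ≠ 0 := by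
      show classInner _ (conjOn g θ0) ≠ 0
      rwa [classInner_restrict_conjOn (IsIrrCharacter.isClassFunction χ.1.2)]
    obtain ⟨ξ, hξ, hξr, hξc⟩ := exists_real_over hDodd (f θ).2 ((hfreal θ).1 hθr)
    refine ⟨⟨⟨ξ, hξ⟩, hξr, ?_⟩, θ, hθr, hc, hξc⟩
    have hd := hdeg θ _ ξ hθr χ.1.2 χ.2 hξ hξr hc hξc
    have hp' := hreal _ χ.1.2 χ.2 _ (GlaubermanCorr.cast_charDegree (IsIrrCharacter.isCharacter χ.1.2))
    show ¬ p ∣ charDegree ξ
    rw [← ZMod.natCast_eq_zero_iff] at hp' ⊢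
    rcases hd with h | h <;> rw [h] <;> simpa using hp'
  choose F θ hθr hc hc' using hex
  refine ⟨F, ⟨fun χ χ' heq => ?_, fun ξ => ?_⟩, fun χ =>
    hdeg (θ χ) _ _ (hθr χ) χ.1.2 χ.2 (F χ).1.2 (F χ).2.1 (hc χ) (hc' χ)⟩
  · -- injective
    have h' := hc' χ'
    rw [← heq] at h'
    obtain ⟨n, hn⟩ := mem_conjOrbit.1
      (mem_conjOrbit_of_constituent (F χ).1.2 (f (θ χ)).2 (f (θ χ')).2 (hc' χ) h')
    have h2 := (hfconj n (θ χ) (θ χ')).2 hn
    have h3 : classInner (fun k : ↥K => (χ.1 : G → ℂ) k) ((θ χ').1 : ↥K → ℂ) ≠ 0 := by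
      rw [h2, classInner_restrict_conjOn (IsIrrCharacter.isClassFunction χ.1.2)]
      exact hc χ
    exact Subtype.ext (Subtype.ext
      (OddIndex.eq_of_real hKodd χ.1.2 χ'.1.2 χ.2 χ'.2 (θ χ').1.2 h3 (hc χ')))
  · -- surjective
    obtain ⟨η, hη, hηr, hηc⟩ := exists_real_constituent hDodd ξ.1.2 ξ.2.1
    have hPη : (P : Subgroup G).subgroupOf N ≤ inertia η := by
      obtain ⟨d, -, hd⟩ := IsIrrCharacter.exists_degree hη
      have hind : ¬ p ∣ (inertia η).index := fun h => ξ.2.2 <| by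
        have : charDegree (ξ.1 : ↥N → ℂ) = (inertia η).index * d := Nat.cast_injective (R := ℂ) (by
          rw [← GlaubermanCorr.cast_charDegree (IsIrrCharacter.isCharacter ξ.1.2),
            degree_of_real_over hDodd hη hηr ξ.1.2 ξ.2.1 hηc, hd, Nat.cast_mul])
        exact this ▸ h.mul_right d
      obtain ⟨g, hg⟩ := exists_conj_le_of_not_dvd (P.subtype hPN) (inertia η) hind
      intro y hy
      have hy' : g⁻¹ * y * g ∈ (P : Subgroup G).subgroupOf N := by
        rw [mem_subgroupOf] at hy ⊢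
        have hg' : ((g⁻¹ : ↥N) : G) ∈ normalizer ((P : Subgroup G) : Set G) := by
          rw [← hN]; exact (g⁻¹ : ↥N).2
        have h1 := (mem_normalizer_iff.1 hg' (y : G)).1 hy
        simpa using h1
      simpa [mul_assoc] using hg _ hy'
    obtain ⟨θ', hθ'⟩ := (hfrange ⟨η, hη⟩).2 hPη
    have hfθ : (f θ' : ↥(K.subgroupOf N) → ℂ) = η := congrArg Subtype.val hθ'
    have hθ'r : ∀ k, ((θ'.1 : ↥K → ℂ) k).im = 0 := (hfreal θ').2 fun d => by rw [hfθ]; exact hηr d
    obtain ⟨χ, hχ, hχr, hχc⟩ := exists_real_over hKodd θ'.1.2 hθ'r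
    refine ⟨⟨⟨χ, hχ⟩, hχr⟩, ?_⟩
    obtain ⟨g, hg⟩ := mem_conjOrbit.1 (mem_conjOrbit_of_constituent hχ θ'.1.2
      (θ ⟨⟨χ, hχ⟩, hχr⟩).1.2 hχc (hc ⟨⟨χ, hχ⟩, hχr⟩))
    obtain ⟨n, hn⟩ := hfus θ' (θ ⟨⟨χ, hχ⟩, hχr⟩) g hg
    have h4 := (hfconj n θ' (θ ⟨⟨χ, hχ⟩, hχr⟩)).1 hn
    refine Subtype.ext (Subtype.ext (OddIndex.eq_of_real hDodd (F ⟨⟨χ, hχ⟩, hχr⟩).1.2 ξ.1.2
      (F ⟨⟨χ, hχ⟩, hχr⟩).2.1 ξ.2.1 (f (θ ⟨⟨χ, hχ⟩, hχr⟩)).2 (hc' _) ?_))
    rw [h4, classInner_restrict_conjOn (IsIrrCharacter.isClassFunction ξ.1.2), hfθ]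
    exact hηc

end CfsgLib.RealDegree
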