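import Cfsg.Agent.FGSB.RealDegree.NormalSylow
import Cfsg.Agent.GlaubermanCorr.Main

/-!
# The correspondence for invariant characters of a normal subgroup with normal Sylow subgroup
-/

set_option autoImplicit false
set_option linter.style.haveILetI false
set_option linter.ambiguousOpen false

namespace CfsgLib.RealDegree

open Subgroup GlaubermanCorr Cfsg
open scoped ComplexConjugate

universe u

theorem le_inertia_iff_inv {G : Type u} [Group G] {K P : Subgroup G} [K.Normal] (θ : ↥K → ℂ) :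
    P ≤ Char.inertia θ ↔ Inv K P θ := by
  constructor
  · intro h y hy k k' hk
    have := (Char.mem_inertia_iff θ y).1 (h hy) k
    rw [← this]
    exact congrArg θ (Subtype.ext hk)
  · intro h y hy
    exact (Char.mem_inertia_iff θ y).2 fun k => h y hy k _ rfl

set_option maxHeartbeats 800000 in
/-- The correspondence, seen on the intersection with the Sylow normaliser. -/
theorem exists_inertia_correspondence {p : ℕ} [hp : Fact p.Prime] {G : Type u} [Group G] [Finite G]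
    (P : Sylow p G) (K Q : Subgroup G) [K.Normal] [Q.Normal] (hQK : Q ≤ K)
    (hQP : Q ≤ (P : Subgroup G)) (hsyl : ¬ p ∣ Q.relIndex K) (N : Subgroup G)
    (hN : N = normalizer ((P : Subgroup G) : Set G)) :
    ∃ f : {θ : IrrCharacter ↥K // (P : Subgroup G) ≤ Char.inertia (θ : ↥K → ℂ)} →
        IrrCharacter ↥(K.subgroupOf N),
      Function.Injective f ∧
      (∀ η : IrrCharacter ↥(K.subgroupOf N),
        (∃ θ, f θ = η) ↔ (P : Subgroup G).subgroupOf N ≤ Char.inertia (η : ↥(K.subgroupOf N) → ℂ)) ∧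
      (∀ θ, (∀ k, ((θ.1 : ↥K → ℂ) k).im = 0) ↔ ∀ d, ((f θ : ↥(K.subgroupOf N) → ℂ) d).im = 0) ∧
      (∀ (n : ↥N) θ θ', ((θ'.1 : ↥K → ℂ) = Char.conjOn (n : G) (θ.1 : ↥K → ℂ)) ↔
        ((f θ' : ↥(K.subgroupOf N) → ℂ) = Char.conjOn n (f θ : ↥(K.subgroupOf N) → ℂ))) ∧
      (∀ θ (d d' : ℕ), (θ.1 : ↥K → ℂ) 1 = d → (f θ : ↥(K.subgroupOf N) → ℂ) 1 = d' →
        (d : ZMod p) = d' ∨ (d : ZMod p) = -d') := by
  classical
  haveI := Fintype.ofFinite G
  have hKn : K.Normal := inferInstance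
  have hQn : Q.Normal := inferInstance
  have hPN : ∀ n ∈ N, ∀ y, y ∈ (P : Subgroup G) ↔ n * y * n⁻¹ ∈ (P : Subgroup G) := fun n hn =>
    mem_normalizer_iff.1 (hN ▸ hn)
  have hP : (P : Subgroup G) ≤ N := hN ▸ le_normalizer
  have hPK : ∀ z ∈ (P : Subgroup G), z ∈ K → z ∈ Q := fun z hz hzK => by
    obtain ⟨k, hk⟩ := IsPGroup.iff_orderOf.1 P.isPGroup' ⟨z, hz⟩
    rw [Subgroup.orderOf_mk] at hk
    have h1 : z ^ Q.relIndex K ∈ Q := by
      haveI : (Q.subgroupOf K).Normal := hQn.subgroupOf K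
      exact mem_subgroupOf.1 (pow_index_mem (Q.subgroupOf K) ⟨z, hzK⟩)
    have hcop : Nat.Coprime (orderOf z) (Q.relIndex K) := by
      rw [hk]
      exact (hp.out.coprime_iff_not_dvd.2 hsyl).pow_left k
    obtain ⟨r, hr⟩ := exists_pow_eq_self_of_coprime hcop.symm
    exact hr ▸ pow_mem h1 r
  set C := K ⊓ N with hC
  have hCK : C ≤ K := inf_le_left
  have hCchar : ∀ k, k ∈ C ↔ k ∈ K ∧ ∀ y ∈ (P : Subgroup G), y * k * y⁻¹ * k⁻¹ ∈ Q := by
    intro k
    refine ⟨fun hk => ⟨hk.1, fun y hy => hPK _ ?_ ?_⟩, fun ⟨hk, h⟩ => ⟨hk, ?_⟩⟩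
    · rw [show y * k * y⁻¹ * k⁻¹ = y * (k * y⁻¹ * k⁻¹) by group]
      exact mul_mem hy ((hPN k hk.2 _).1 (inv_mem hy))
    · exact mul_mem (hKn.conj_mem k hk.1 y) (inv_mem hk.1)
    · show k ∈ N
      rw [hN, mem_normalizer_iff]
      have hone : ∀ y ∈ (P : Subgroup G), k * y * k⁻¹ ∈ (P : Subgroup G) := fun y hy => by
        have h1 := mul_mem hy (hQP (h y⁻¹ (inv_mem hy)))
        simpa [mul_assoc] using h1
      intro y
      refine ⟨hone y, fun hy => ?_⟩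
      have he : (P : Subgroup G).map (MulAut.conj k).toMonoidHom = P :=
        eq_of_le_of_card_ge (map_le_iff_le_comap.2 hone)
          (card_map_of_injective (MulEquiv.injective _)).ge
      rw [← he] at hy
      obtain ⟨b, hb, hby⟩ := hy
      rw [show y = b from ((MulAut.conj k).injective hby).symm]
      exact hb
  haveI := Fintype.ofFinite ↥K
  haveI := Fintype.ofFinite ↥C
  obtain ⟨f, hf, hm⟩ := exists_correspondence (p := p) (C := C) P.isPGroup' hQK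
    (fun k _ q hq => hQn.conj_mem q hq k) (P.isPGroup'.to_le hQP) hsyl
    (fun y _ k hk => hKn.conj_mem k hk y) hCK hCchar
  have hequiv : ∀ χ χ' ξ', (∀ m : ℕ, classInner (fun c : ↥C => (χ.1 : ↥K → ℂ) ⟨c, hCK c.2⟩)
      ((f χ).1 : ↥C → ℂ) = m → classInner (fun c : ↥C => (χ'.1 : ↥K → ℂ) ⟨c, hCK c.2⟩)
      (ξ'.1 : ↥C → ℂ) = m) → f χ' = ξ' := by
    intro χ χ' ξ' h
    obtain ⟨m, hm1, hm2, -⟩ := hm χ (f χ)
    obtain ⟨m', hm1', -, hm3'⟩ := hm χ' ξ'
    by_contra hne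
    have h1 := h m hm1
    rw [hm1', Nat.cast_inj] at h1
    subst h1
    have h2 := hm2 rfl
    rw [hm3' (Ne.symm hne), zero_pow (by norm_num)] at h2
    exact zero_ne_one h2
  -- complex conjugation
  let cK : {χ : IrrCharacter ↥K // Inv K (P : Subgroup G) (χ : ↥K → ℂ)} →
      {χ : IrrCharacter ↥K // Inv K (P : Subgroup G) (χ : ↥K → ℂ)} := fun χ =>
    ⟨⟨fun k => conj ((χ.1 : ↥K → ℂ) k), Char.IsIrrCharacter.conj χ.1.2⟩,
      fun y hy k k' hk => congrArg conj (χ.2 y hy k k' hk)⟩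
  let cC : {ξ : IrrCharacter ↥C // Inv C (P : Subgroup G) (ξ : ↥C → ℂ)} →
      {ξ : IrrCharacter ↥C // Inv C (P : Subgroup G) (ξ : ↥C → ℂ)} := fun ξ =>
    ⟨⟨fun c => conj ((ξ.1 : ↥C → ℂ) c), Char.IsIrrCharacter.conj ξ.1.2⟩,
      fun y hy k k' hk => congrArg conj (ξ.2 y hy k k' hk)⟩
  have hconj : ∀ χ, f (cK χ) = cC (f χ) := fun χ => hequiv χ _ _ fun m h => by
    show classInner (fun c : ↥C => conj ((χ.1 : ↥K → ℂ) ⟨c, hCK c.2⟩))
      (fun c => conj (((f χ).1 : ↥C → ℂ) c)) = _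
    rw [Char.classInner_conj_conj, ← Char.classInner_conj, h, Complex.conj_natCast]
  have hreal : ∀ χ, (∀ k, ((χ.1 : ↥K → ℂ) k).im = 0) ↔
      ∀ c, (((f χ).1 : ↥C → ℂ) c).im = 0 := by
    intro χ
    have h1 : (∀ k, ((χ.1 : ↥K → ℂ) k).im = 0) ↔ cK χ = χ := by
      simp only [← Complex.conj_eq_iff_im]
      exact ⟨fun h => Subtype.ext (Subtype.ext (funext h)), fun h k =>
        congrFun (congrArg (fun z : {χ : IrrCharacter ↥K // Inv K (P : Subgroup G) (χ : ↥K → ℂ)} =>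
          (z.1 : ↥K → ℂ)) h) k⟩
    have h2 : (∀ c, (((f χ).1 : ↥C → ℂ) c).im = 0) ↔ cC (f χ) = f χ := by
      simp only [← Complex.conj_eq_iff_im]
      exact ⟨fun h => Subtype.ext (Subtype.ext (funext h)), fun h c =>
        congrFun (congrArg (fun z : {ξ : IrrCharacter ↥C // Inv C (P : Subgroup G) (ξ : ↥C → ℂ)} =>
          (z.1 : ↥C → ℂ)) h) c⟩
    rw [h1, h2, ← hconj, hf.1.eq_iff]
  -- conjugation by the normaliser
  have hnorm : ∀ (n : ↥N) χ, ∃ χ' : {χ : IrrCharacter ↥K // Inv K (P : Subgroup G) (χ : ↥K → ℂ)},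
      (χ'.1 : ↥K → ℂ) = Char.conjOn (n : G) (χ.1 : ↥K → ℂ) ∧
      ∀ c c' : ↥C, (c' : G) = (n : G) * c * (n : G)⁻¹ →
        ((f χ').1 : ↥C → ℂ) c = ((f χ).1 : ↥C → ℂ) c' := by
    intro n χ
    let β : ↥C ≃* ↥C :=
      { toFun := fun c => ⟨(n : G) * c * (n : G)⁻¹, hKn.conj_mem _ c.2.1 (n : G),
          N.mul_mem (N.mul_mem n.2 c.2.2) (N.inv_mem n.2)⟩
        invFun := fun c => ⟨(n : G)⁻¹ * c * n, by simpa using hKn.conj_mem _ c.2.1 (n : G)⁻¹,
          N.mul_mem (N.mul_mem (N.inv_mem n.2) c.2.2) n.2⟩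
        left_inv := fun c => Subtype.ext (by simp [mul_assoc])
        right_inv := fun c => Subtype.ext (by simp [mul_assoc])
        map_mul' := fun a b => Subtype.ext (by simp [mul_assoc]) }
    let χ' : {χ : IrrCharacter ↥K // Inv K (P : Subgroup G) (χ : ↥K → ℂ)} :=
      ⟨⟨Char.conjOn (n : G) (χ.1 : ↥K → ℂ), Char.isIrrCharacter_conjOn χ.1.2 _⟩, fun y hy k k' hk => by
        refine χ.2 ((n : G) * y * (n : G)⁻¹) ((hPN n n.2 y).1 hy) _ _ ?_
        simp only [hk]; group⟩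
    let ξ' : {ξ : IrrCharacter ↥C // Inv C (P : Subgroup G) (ξ : ↥C → ℂ)} :=
      ⟨⟨fun c => ((f χ).1 : ↥C → ℂ) (β c),
        Char.IsIrrCharacter.comp_surjective (f χ).1.2 β.toMonoidHom β.surjective⟩, fun y hy k k' hk => by
        refine (f χ).2 ((n : G) * y * (n : G)⁻¹) ((hPN n n.2 y).1 hy) (β k) (β k') ?_
        show (n : G) * k' * (n : G)⁻¹ = _ * ((n : G) * k * (n : G)⁻¹) * _
        rw [hk]; group⟩
    refine ⟨χ', rfl, ?_⟩
    have h1 : f χ' = ξ' := hequiv χ χ' ξ' fun m h => by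
      rw [← h, ← Char.classInner_comp_mulEquiv β (fun c : ↥C => (χ.1 : ↥K → ℂ) ⟨c, hCK c.2⟩)]
      rfl
    intro c c' hc
    rw [h1]
    exact congrArg ((f χ).1 : ↥C → ℂ) (Subtype.ext hc.symm : β c = c')
  -- transport to `K.subgroupOf N`
  let e : ↥(K.subgroupOf N) ≃* ↥C :=
    { toFun := fun d => ⟨((d : ↥N) : G), mem_subgroupOf.1 d.2, (d : ↥N).2⟩
      invFun := fun c => ⟨⟨c, c.2.2⟩, mem_subgroupOf.2 c.2.1⟩
      left_inv := fun _ => rfl
      right_inv := fun _ => rfl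
      map_mul' := fun _ _ => rfl }
  let F : {θ : IrrCharacter ↥K // (P : Subgroup G) ≤ Char.inertia (θ : ↥K → ℂ)} →
      IrrCharacter ↥(K.subgroupOf N) := fun θ =>
    ⟨fun d => ((f ⟨θ.1, (le_inertia_iff_inv _).1 θ.2⟩).1 : ↥C → ℂ) (e d),
      Char.IsIrrCharacter.comp_surjective (f ⟨θ.1, (le_inertia_iff_inv _).1 θ.2⟩).1.2
        e.toMonoidHom e.surjective⟩
  have hFinj : Function.Injective F := fun a b hab => by
    have h1 : f ⟨a.1, (le_inertia_iff_inv _).1 a.2⟩ = f ⟨b.1, (le_inertia_iff_inv _).1 b.2⟩ := by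
      refine Subtype.ext (Subtype.ext (funext fun c => ?_))
      have := congrFun (congrArg Subtype.val hab) (e.symm c)
      simpa [F] using this
    exact Subtype.ext (congrArg (fun z : {χ : IrrCharacter ↥K // Inv K (P : Subgroup G) (χ : ↥K → ℂ)} => z.1) (hf.1 h1))
  refine ⟨F, hFinj, fun η => ⟨?_, fun hη => ?_⟩, fun θ => ?_, fun n θ θ' => ?_,
    fun θ d d' hd hd' => ?_⟩
  · rintro ⟨θ, rfl⟩ y hy
    rw [Char.mem_inertia_iff]
    exact fun k => (f _).2 ((y : ↥N) : G) (mem_subgroupOf.1 hy) (e k) _ rfl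
  · let ξ : {ξ : IrrCharacter ↥C // Inv C (P : Subgroup G) (ξ : ↥C → ℂ)} :=
      ⟨⟨fun c => (η : ↥(K.subgroupOf N) → ℂ) (e.symm c),
        Char.IsIrrCharacter.comp_surjective η.2 e.symm.toMonoidHom e.symm.surjective⟩, fun y hy k k' hk => by
        have h1 := (Char.mem_inertia_iff (η : ↥(K.subgroupOf N) → ℂ) _).1
          (hη (show (⟨y, hP hy⟩ : ↥N) ∈ (P : Subgroup G).subgroupOf N from mem_subgroupOf.2 hy)) (e.symm k)
        refine Eq.trans ?_ h1
        exact congrArg _ (Subtype.ext (Subtype.ext hk))⟩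
    obtain ⟨χ, hχ⟩ := hf.2 ξ
    refine ⟨⟨χ.1, (le_inertia_iff_inv _).2 χ.2⟩, Subtype.ext (funext fun d => ?_)⟩
    show ((f χ).1 : ↥C → ℂ) (e d) = _
    rw [hχ]
    exact congrArg _ (e.symm_apply_apply d)
  · rw [hreal ⟨θ.1, (le_inertia_iff_inv _).1 θ.2⟩]
    exact ⟨fun h d => h _, fun h c => e.apply_symm_apply c ▸ h (e.symm c)⟩
  · obtain ⟨χ', hχ', hfχ'⟩ := hnorm n ⟨θ.1, (le_inertia_iff_inv _).1 θ.2⟩
    have hkey : ((F ⟨χ'.1, (le_inertia_iff_inv _).2 χ'.2⟩ : IrrCharacter _) : ↥(K.subgroupOf N) → ℂ) =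
        Char.conjOn n (F θ : ↥(K.subgroupOf N) → ℂ) := funext fun d => hfχ' _ _ rfl
    constructor
    · intro h
      rw [← hkey, show θ' = ⟨χ'.1, (le_inertia_iff_inv _).2 χ'.2⟩ from
        Subtype.ext (Subtype.ext (h.trans hχ'.symm))]
    · intro h
      rw [← hχ']
      exact congrArg (fun z : {θ : IrrCharacter ↥K // (P : Subgroup G) ≤ Char.inertia (θ : ↥K → ℂ)} =>
        (z.1 : ↥K → ℂ)) (hFinj (a₁ := θ') (a₂ := ⟨χ'.1, (le_inertia_iff_inv _).2 χ'.2⟩)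
          (Subtype.ext (h.trans hkey.symm)))
  · set χ : {χ : IrrCharacter ↥K // Inv K (P : Subgroup G) (χ : ↥K → ℂ)} :=
      ⟨θ.1, (le_inertia_iff_inv _).1 θ.2⟩ with hχ
    obtain ⟨m, hm1, hm2, -⟩ := hm χ (f χ)
    have hdeg := degree_congr (p := p) (K := K) (C := C) P.isPGroup' (fun y _ k hk => hKn.conj_mem k hk y)
      (fun y hy k hk => ⟨hKn.conj_mem k hk.1 y, N.mul_mem (N.mul_mem (hP hy) hk.2) (N.inv_mem (hP hy))⟩)
      hCK χ.1 χ.2 (f χ).1 (f χ).2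
      (fun ξ hξ hne => by
        obtain ⟨m', hm', -, hm''⟩ := hm χ ⟨ξ, hξ⟩
        exact ⟨m', hm', hm'' fun h => hne (congrArg Subtype.val h)⟩) m hm1
    have e1 : charDegree (χ.1 : ↥K → ℂ) = d := Nat.cast_injective (R := ℂ)
      ((cast_charDegree (Char.IsIrrCharacter.isCharacter χ.1.2)).symm.trans hd)
    have e2 : charDegree ((f χ).1 : ↥C → ℂ) = d' := Nat.cast_injective (R := ℂ)
      ((cast_charDegree (Char.IsIrrCharacter.isCharacter (f χ).1.2)).symm.trans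
        ((congrArg _ (map_one e).symm).trans hd'))
    rw [e1, e2] at hdeg
    rcases sq_eq_one_iff.1 (hm2 rfl) with h | h
    · exact Or.inl (by rw [hdeg, h, one_mul])
    · exact Or.inr (by rw [hdeg, h, neg_one_mul])

end CfsgLib.RealDegree
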