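import Cfsg.Agent.FGSB.RealDegree.Basic
import Cfsg.Agent.Char.Central
import Mathlib.GroupTheory.PGroup

/-!
# Normal subgroups in the derived group of a Sylow subgroup
-/

set_option autoImplicit false
set_option linter.style.haveILetI false

namespace CfsgLib.RealDegree

open Subgroup

universe u

variable {p : ℕ} [hp : Fact p.Prime]

/-- A 2-element centralises an abelian normal subgroup contained in the derived group of a
Sylow `p`-subgroup, for odd `p`. -/
theorem commute_of_abelian {G : Type u} [Group G] [Finite G] (hp2 : p ≠ 2) (hreal : RealPrime p G)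
    (P : Sylow p G) (N : Subgroup G) [N.Normal] (hab : ∀ a ∈ N, ∀ b ∈ N, a * b = b * a)
    (hN : N ≤ ⁅(P : Subgroup G), (P : Subgroup G)⁆) {t : G} {k : ℕ} (ht : orderOf t = 2 ^ k) :
    ∀ x ∈ N, t * x = x * t := by
  classical
  by_contra hne
  push Not at hne
  haveI := Fintype.ofFinite G
  haveI : Fact (Nat.Prime 2) := ⟨Nat.prime_two⟩
  have hNP : N ≤ (P : Subgroup G) := hN.trans (commutator_le.2 fun a ha b hb => by
    rw [commutatorElement_def]
    exact mul_mem (mul_mem (mul_mem ha hb) (inv_mem ha)) (inv_mem hb))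
  obtain ⟨μ, s0, hμ1, hs0⟩ := exists_inverted hab ht hne
  obtain ⟨T, hT⟩ : ∃ T, Char.inertia (fun y : ↥N => (μ y : ℂ)) = T := ⟨_, rfl⟩
  have hTm : ∀ g, g ∈ T ↔ Fixes μ g := fun g => hT ▸ mem_inertia_hom μ g
  have hinv : ∀ x, μ (MulAut.conjNormal s0⁻¹ x) = (μ x)⁻¹ := fun x => by
    have := hs0 (MulAut.conjNormal s0⁻¹ x)
    rw [← MulAut.mul_apply, ← map_mul, mul_inv_cancel, map_one, MulAut.one_apply] at this
    rw [this, inv_inv]
  have hsT : ∀ g, g ∈ T → s0 * g * s0⁻¹ ∈ T ∧ s0⁻¹ * g * s0 ∈ T := fun g hg => by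
    have hg' := (hTm g).1 hg
    refine ⟨(hTm _).2 fun x => ?_, (hTm _).2 fun x => ?_⟩
    · rw [map_mul, map_mul, MulAut.mul_apply, MulAut.mul_apply, hs0, hg', hinv, inv_inv]
    · rw [map_mul, map_mul, MulAut.mul_apply, MulAut.mul_apply, hinv, hg', hs0, inv_inv]
  let σ : ↥T →* ↥T :=
    { toFun := fun x => ⟨s0 * x * s0⁻¹, (hsT x x.2).1⟩
      map_one' := Subtype.ext (by simp)
      map_mul' := fun a b => Subtype.ext (by simp [mul_assoc]) }
  have hσ : Function.Surjective σ := fun x => ⟨⟨s0⁻¹ * x * s0, (hsT x x.2).2⟩,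
    Subtype.ext (by simp [σ, mul_assoc])⟩
  obtain ⟨E⟩ := (inferInstance : Nonempty (Sylow 2 ↥T))
  obtain ⟨r, hr⟩ := MulAction.exists_smul_eq ↥T (E.mapSurjective hσ) E
  set A := (E : Subgroup ↥T).map T.subtype with hA
  have hs : ∀ x, μ (MulAut.conjNormal ((r : G) * s0) x) = (μ x)⁻¹ := fun x => by
    rw [map_mul, MulAut.mul_apply, (hTm r).1 r.2, hs0]
  have hsA1 : ∀ a ∈ A, (r : G) * s0 * a * ((r : G) * s0)⁻¹ ∈ A := by
    rintro _ ⟨a, ha, rfl⟩
    refine ⟨r * σ a * r⁻¹, ?_, ?_⟩
    · rw [SetLike.mem_coe, ← hr, Sylow.coe_subgroup_smul, mem_pointwise_smul_iff_inv_smul_mem,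
        Sylow.coe_mapSurjective]
      exact ⟨a, ha, by simp [mul_assoc]⟩
    · simp [σ, mul_assoc]
  have hsA : ∀ a, (r : G) * s0 * a * ((r : G) * s0)⁻¹ ∈ A ↔ a ∈ A := by
    intro a
    refine ⟨fun h => ?_, hsA1 a⟩
    have he : A.map (MulAut.conj ((r : G) * s0)).toMonoidHom = A :=
      eq_of_le_of_card_ge (map_le_iff_le_comap.2 hsA1)
        (card_map_of_injective (MulEquiv.injective _)).ge
    rw [← he] at h
    obtain ⟨b, hb, hba⟩ := h
    rw [show a = b from ((MulAut.conj ((r : G) * s0)).injective hba).symm]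
    exact hb
  have hApg : IsPGroup 2 ↥A := E.isPGroup'.map _
  have hNpg : IsPGroup p ↥N := P.isPGroup'.to_le hNP
  obtain ⟨χ, hχ, hχr, hχd⟩ := exists_real_over_inverted μ
    (fun a ha => by obtain ⟨a, -, rfl⟩ := ha; exact (hTm a).1 a.2)
    (disjoint_iff.1 (IsPGroup.disjoint_of_ne p 2 hp2 _ _ hNpg hApg)) _ hs hsA
    (by
      rw [hT]
      refine Nat.not_even_iff_odd.1 fun h => E.not_dvd_index ?_
      refine (even_iff_two_dvd.1 h).trans ?_
      have : A.relIndex T = (E : Subgroup ↥T).index := by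
        rw [relIndex, hA, subgroupOf, comap_map_eq_self_of_injective T.subtype_injective]
      exact this ▸ relIndex_dvd_of_le_left T le_sup_right)
  obtain ⟨d, -, hd⟩ := Char.IsIrrCharacter.exists_degree hχ
  have hpd := hreal χ hχ hχr d hd
  have hover := (hχd d hd).2
  haveI := Fintype.ofFinite ↥(P : Subgroup G)
  have hres := Char.IsCharacter.restrict (Char.IsIrrCharacter.isCharacter hχ) (P : Subgroup G)
  -- a linear constituent on the Sylow subgroup
  obtain ⟨θ, hθ, hθ1, hθc⟩ : ∃ θ, Cfsg.IsIrrCharacter ↥(P : Subgroup G) θ ∧ θ 1 = 1 ∧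
      Cfsg.classInner (fun x : ↥(P : Subgroup G) => χ x) θ ≠ 0 := by
    by_contra! hall
    have hdiv : (d : ZMod p) = 0 := by
      choose! a ha using fun θ (hθ : θ ∈ Char.irrFinset ↥(P : Subgroup G)) =>
        Char.IsCharacter.exists_classInner_eq_natCast hres (Char.mem_irrFinset.1 hθ)
      choose! dg hdg using fun θ (hθ : θ ∈ Char.irrFinset ↥(P : Subgroup G)) =>
        Char.IsCharacter.exists_degree (Char.IsIrrCharacter.isCharacter (Char.mem_irrFinset.1 hθ))
      have h1 := congrFun (Char.eq_sum_irr (Char.IsCharacter.isClassFunction hres)) 1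
      simp only [OneMemClass.coe_one, Finset.sum_apply, Pi.smul_apply, smul_eq_mul] at h1
      have h2 : d = ∑ θ ∈ Char.irrFinset ↥(P : Subgroup G), a θ * dg θ := by
        apply Nat.cast_injective (R := ℂ)
        rw [← hd, h1, Nat.cast_sum]
        exact Finset.sum_congr rfl fun θ hθ => by rw [ha θ hθ, hdg θ hθ, Nat.cast_mul]
      rw [h2, Nat.cast_sum]
      refine Finset.sum_eq_zero fun θ hθ => ?_
      rw [Nat.cast_mul]
      by_cases ha0 : a θ = 0
      · rw [ha0, Nat.cast_zero, zero_mul]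
      · have hdiv : dg θ ∣ Nat.card ↥(P : Subgroup G) :=
          Char.IsIrrCharacter.degree_dvd_card (Char.mem_irrFinset.1 hθ) (hdg θ hθ)
        obtain ⟨j, hj⟩ := IsPGroup.iff_card.1 P.isPGroup'
        rw [hj] at hdiv
        obtain ⟨i, -, hi⟩ := (Nat.dvd_prime_pow hp.out).1 hdiv
        rcases Nat.eq_zero_or_pos i with rfl | hi0
        · refine absurd (ha θ hθ ▸ hall θ (Char.mem_irrFinset.1 hθ) ?_) (by exact_mod_cast ha0)
          rw [hdg θ hθ, hi, pow_zero, Nat.cast_one]
        · rw [hi, Nat.cast_pow, ZMod.natCast_self, zero_pow hi0.ne', mul_zero]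
    exact hpd ((ZMod.natCast_eq_zero_iff d p).1 hdiv)
  obtain ⟨lam, hlam⟩ := Char.IsCharacter.exists_hom (Char.IsIrrCharacter.isCharacter hθ) hθ1
  -- it is trivial on `N`
  have htriv : ∀ x : ↥N, θ (inclusion hNP x) = 1 := fun x => by
    have h1 : (inclusion hNP x) ∈ commutator ↥(P : Subgroup G) := by
      have h2 := hN x.2
      rw [← map_subtype_commutator] at h2
      obtain ⟨y, hy, hyx⟩ := h2
      rwa [show inclusion hNP x = y from Subtype.ext hyx.symm]
    rw [hlam]
    show (lam _ : ℂ) = 1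
    rw [MonoidHom.mem_ker.1 (Abelianization.commutator_subset_ker lam h1), Units.val_one]
  have hsub := Char.IsCharacter.comp (Char.IsCharacter.sub_irr hres hθ hθc) (inclusion hNP)
  have h1N := Char.isIrrCharacter_one (G := ↥N)
  obtain ⟨m, hm⟩ := Char.IsCharacter.exists_classInner_eq_natCast hsub h1N
  have hone : Cfsg.classInner (fun x : ↥N => χ x) (fun _ : ↥N => (1 : ℂ)) ≠ 0 := by
    have heq : (fun x : ↥N => χ x) =
        (fun x : ↥N => ((fun y : ↥(P : Subgroup G) => χ y) - θ) (inclusion hNP x)) +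
          fun _ : ↥N => (1 : ℂ) := funext fun x => by
      simp [htriv x]
    rw [heq, Char.classInner_add_left, hm, Char.IsIrrCharacter.classInner_self h1N,
      show (m : ℂ) + 1 = ((m + 1 : ℕ) : ℂ) by push_cast; rfl, Nat.cast_ne_zero]
    omega
  obtain ⟨g, hg⟩ := Char.mem_conjOrbit.1
    (Char.mem_conjOrbit_of_constituent hχ h1N (Char.isIrrCharacter_ofHom μ) hone hover)
  refine hμ1 (MonoidHom.ext fun x => Units.val_inj.1 ?_)
  rw [congrFun hg x, Char.conjOn_apply]
  rfl

/-- A 2-element centralises every normal subgroup in the derived group of a Sylow `p`-subgroup,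
for odd `p`. -/
theorem commute_of_le_derived (hp2 : p ≠ 2) (n : ℕ) :
    ∀ {G : Type u} [Group G] [Finite G], Nat.card G = n → RealPrime p G → ∀ (P : Sylow p G)
      (M : Subgroup G), M.Normal → M ≤ ⁅(P : Subgroup G), (P : Subgroup G)⁆ →
      ∀ (t : G) (k : ℕ), orderOf t = 2 ^ k → ∀ x ∈ M, t * x = x * t := by
  induction n using Nat.strong_induction_on with
  | _ n ih =>
    intro G _ _ hn hreal P M hM hMP t k ht x hx
    by_cases hM1 : M = ⊥
    · rw [hM1, mem_bot] at hx
      simp [hx]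
    have hMp : M ≤ (P : Subgroup G) := hMP.trans (commutator_le.2 fun a ha b hb => by
      rw [commutatorElement_def]
      exact mul_mem (mul_mem (mul_mem ha hb) (inv_mem ha)) (inv_mem hb))
    have hMpg : IsPGroup p ↥M := P.isPGroup'.to_le hMp
    haveI := hM
    haveI : Nontrivial ↥M := (nontrivial_iff_ne_bot M).2 hM1
    set Z := (center ↥M).map M.subtype with hZ
    haveI : Z.Normal := ConjAct.normal_of_characteristic_of_normal
    have hZ1 : Z ≠ ⊥ := by
      rw [hZ, Ne, map_eq_bot_iff_of_injective _ M.subtype_injective]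
      haveI := hMpg.center_nontrivial
      exact (nontrivial_iff_ne_bot _).1 inferInstance
    have hZM : Z ≤ M := map_subtype_le _
    have hZc : ∀ z ∈ Z, t * z = z * t := commute_of_abelian hp2 hreal P Z
      (by
        rintro _ ⟨a, ha, rfl⟩ _ ⟨b, -, rfl⟩
        exact congrArg Subtype.val (mem_center_iff.1 ha b).symm)
      (hZM.trans hMP) ht
    have hlt : Nat.card (G ⧸ Z) < n := by
      rw [← hn, card_eq_card_quotient_mul_card_subgroup Z]
      exact lt_mul_of_one_lt_right Nat.card_pos ((one_lt_card_iff_ne_bot Z).2 hZ1)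
    obtain ⟨k', -, hk'⟩ := (Nat.dvd_prime_pow Nat.prime_two).1
      (ht ▸ orderOf_map_dvd (QuotientGroup.mk' Z) t)
    have hbar := ih _ hlt rfl (hreal.quotient Z)
      (P.mapSurjective (QuotientGroup.mk'_surjective Z)) (M.map (QuotientGroup.mk' Z))
      (hM.map _ (QuotientGroup.mk'_surjective Z))
      (by rw [Sylow.coe_mapSurjective, ← map_commutator]; exact map_mono hMP)
      _ k' hk' _ (mem_map_of_mem _ hx)
    have hc : t * x * t⁻¹ * x⁻¹ ∈ Z := by
      rw [← QuotientGroup.eq_one_iff]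
      rw [QuotientGroup.mk'_apply, QuotientGroup.mk'_apply] at hbar
      simp only [QuotientGroup.mk_mul, QuotientGroup.mk_inv, hbar]
      group
    set c := t * x * t⁻¹ * x⁻¹ with hcdef
    have hpow : ∀ i : ℕ, t ^ i * x * (t ^ i)⁻¹ = c ^ i * x := by
      intro i
      induction i with
      | zero => simp
      | succ i hi =>
        have h1 : Commute t (c ^ i) := (show Commute t c from hZc c hc).pow_right i
        rw [pow_succ', show t * t ^ i * x * (t * t ^ i)⁻¹ = t * (t ^ i * x * (t ^ i)⁻¹) * t⁻¹ by group,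
          hi, ← mul_assoc, h1.eq, pow_succ c, hcdef]
        group
    have h1 : c ^ (2 ^ k) = 1 := by
      have := hpow (2 ^ k)
      rw [← ht, pow_orderOf_eq_one] at this
      rw [← ht]
      simpa using this.symm
    obtain ⟨j, hj⟩ := IsPGroup.iff_orderOf.1 hMpg ⟨c, hZM hc⟩
    rw [Subgroup.orderOf_mk] at hj
    have h2 : orderOf c ∣ Nat.gcd (2 ^ k) (p ^ j) :=
      Nat.dvd_gcd (orderOf_dvd_of_pow_eq_one h1) (dvd_of_eq hj)
    rw [((Nat.coprime_primes Nat.prime_two hp.out).2 (Ne.symm hp2)).pow k j, Nat.dvd_one,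
      orderOf_eq_one_iff, hcdef, mul_inv_eq_one, mul_inv_eq_iff_eq_mul] at h2
    exact h2

end CfsgLib.RealDegree
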