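import Cfsg.Agent.FGSB.RealDegree.Basic
import Cfsg.Agent.Solvable.Basics
import Mathlib.GroupTheory.IsPerfect

/-!
# Normal Sylow subgroups from real character degrees
-/

set_option autoImplicit false
set_option linter.style.haveILetI false

namespace CfsgLib.RealDegree

open Subgroup CfsgLib.Solvable

universe u

/-- If every real irreducible character has `p'`-degree, the subgroup generated by the
`p`-elements is solvable and the one generated by the 2-elements has `p`-power index, then the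
Sylow `p`-subgroups are normal. -/
theorem normal_sylow {p : ℕ} [hp : Fact p.Prime] (n : ℕ) :
    ∀ {H : Type u} [Group H] [Finite H], Nat.card H = n → Group.IsSolvable ↥(genBy p H) →
      RealPrime p H → (∃ a, (genBy 2 H).index = p ^ a) → ∀ P : Sylow p H,
      (P : Subgroup H).Normal := by
  induction n using Nat.strong_induction_on with
  | _ n ih =>
    intro H _ _ hn hsol hreal hidx P
    classical
    haveI := Fintype.ofFinite H
    haveI : Fact (Nat.Prime 2) := ⟨Nat.prime_two⟩
    by_cases hP : (P : Subgroup H) = ⊥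
    · rw [hP]; infer_instance
    obtain ⟨N, hNn, hN1, hNL, hmin⟩ :=
      exists_minimal_normal_le (N := genBy p H) fun h => hP (eq_bot_iff.2 (h ▸ sylow_le_genBy P))
    haveI := hNn
    haveI := hsol
    have hNs : Group.IsSolvable ↥N :=
      Group.isSolvable_of_isSolvable_injective (f := inclusion hNL) (inclusion_injective hNL)
    obtain ⟨hNc, q, hq, hNq, hNpg⟩ := minimal_normal_elementary hN1 hmin hNs
    haveI := hNc
    haveI : Fact q.Prime := ⟨hq⟩
    have hab : ∀ a ∈ N, ∀ b ∈ N, a * b = b * a := fun a ha b hb =>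
      congrArg Subtype.val (mul_comm' (⟨a, ha⟩ : ↥N) ⟨b, hb⟩)
    -- the statement for the quotient
    have hlt : Nat.card (H ⧸ N) < n := by
      rw [← hn, card_eq_card_quotient_mul_card_subgroup N]
      exact lt_mul_of_one_lt_right Nat.card_pos ((one_lt_card_iff_ne_bot N).2 hN1)
    have hidx' : ∃ a, (genBy 2 (H ⧸ N)).index = p ^ a := by
      obtain ⟨a, ha⟩ := hidx
      have hd : (genBy 2 (H ⧸ N)).index ∣ p ^ a := by
        rw [← genBy_map (QuotientGroup.mk' N) (QuotientGroup.mk'_surjective N), ← ha]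
        exact index_map_dvd _ (QuotientGroup.mk'_surjective N)
      obtain ⟨b, -, hb⟩ := (Nat.dvd_prime_pow hp.out).1 hd
      exact ⟨b, hb⟩
    have hbar := ih _ hlt rfl (solvable_genBy_quotient N hsol) (hreal.quotient N) hidx'
      (P.mapSurjective (QuotientGroup.mk'_surjective N))
    obtain ⟨W, hWdef⟩ : ∃ W, W = (P : Subgroup H) ⊔ N := ⟨_, rfl⟩
    haveI hW : W.Normal := by
      have h := hbar.comap (QuotientGroup.mk' N)
      rw [Sylow.coe_mapSurjective, comap_map_eq, QuotientGroup.ker_mk'] at h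
      exact hWdef ▸ h
    by_cases hqp : q = p
    · subst hqp
      obtain ⟨R, hR⟩ := hNpg.exists_le_sylow
      have hNP : N ≤ P := by
        obtain ⟨h, rfl⟩ := MulAction.exists_smul_eq H R P
        intro x hx
        rw [Sylow.coe_subgroup_smul, mem_pointwise_smul_iff_inv_smul_mem]
        exact hR (by simpa using hNn.conj_mem x hx h⁻¹)
      rw [sup_eq_left.2 hNP] at hWdef
      exact hWdef ▸ hW
    obtain ⟨M, hMdef⟩ : ∃ M, M = normalizer ((P : Subgroup H) : Set H) := ⟨_, rfl⟩
    have hPM : (P : Subgroup H) ≤ M := hMdef ▸ le_normalizer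
    -- Frattini
    have hNM : N ⊔ M = ⊤ := by
      let PW : Sylow p ↥W := P.subtype (hWdef ▸ le_sup_left)
      have h := Sylow.normalizer_sup_eq_top PW
      rw [show Subgroup.map W.subtype ↑PW = (P : Subgroup H) from
        (Subgroup.map_subgroupOf_eq_of_le (hWdef ▸ le_sup_left))] at h
      rw [eq_top_iff, ← h, hMdef, sup_comm N]
      exact sup_le le_sup_left (hWdef ▸ sup_le (le_sup_of_le_left le_normalizer) le_sup_right)
    have hCn : (N ⊓ M).Normal := by
      rw [← normalizer_eq_top_iff, eq_top_iff, ← hNM]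
      refine sup_le (fun a ha => mem_normalizer_iff.2 fun x => ?_) (fun m hm => ?_)
      · constructor
        · intro hx
          rwa [hab a ha x hx.1, mul_inv_cancel_right]
        · intro hx
          have hxN : x ∈ N := by
            have := hNn.conj_mem _ hx.1 a⁻¹
            simpa [mul_assoc] using this
          rwa [hab a ha x hxN, mul_inv_cancel_right] at hx
      · refine mem_normalizer_iff.2 fun x => ?_
        simp only [mem_inf]
        refine and_congr ⟨fun h => hNn.conj_mem x h m, fun h => ?_⟩ ⟨fun h => ?_, fun h => ?_⟩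
        · simpa [mul_assoc] using hNn.conj_mem _ h m⁻¹
        · exact mul_mem (mul_mem hm h) (inv_mem hm)
        · simpa [mul_assoc] using mul_mem (mul_mem (inv_mem hm) h) hm
    rcases hmin _ hCn inf_le_left with hdisj | hNM'
    swap
    · have hMtop : M = ⊤ := by rw [← hNM, sup_eq_right.2 (inf_eq_left.1 hNM')]
      exact normalizer_eq_top_iff.1 (hMdef ▸ hMtop)
    exfalso
    have hNM0 : ¬ N ≤ M := fun h => hN1 (by rw [← hdisj, inf_eq_left.2 h])
    -- a character of `N` inverted by an element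
    obtain ⟨μ, s0, hμ1, hs0⟩ : ∃ (μ : ↥N →* ℂˣ) (s : H),
        μ ≠ 1 ∧ ∀ x, μ (MulAut.conjNormal s x) = (μ x)⁻¹ := by
      by_cases hq2 : q = 2
      · subst hq2
        obtain ⟨⟨x, hx⟩, hx1⟩ := ne_bot_iff_exists_ne_one.1 hN1
        letI : CommGroup ↥N :=
          { (inferInstance : Group ↥N) with mul_comm := fun a b => Subtype.ext (hab a a.2 b b.2) }
        haveI : NeZero (Monoid.exponent ↥N : ℂ) :=
          ⟨Nat.cast_ne_zero.2 Monoid.exponent_ne_zero_of_finite⟩
        obtain ⟨lam, hlam⟩ := CommGroup.exists_apply_ne_one_of_hasEnoughRootsOfUnity ↥N ℂ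
          (a := ⟨x, hx⟩) hx1
        refine ⟨lam, 1, fun h => hlam (by rw [h]; rfl), fun y => ?_⟩
        rw [map_one, MulAut.one_apply, eq_inv_iff_mul_eq_one, ← map_mul, ← pow_two]
        rw [show y ^ 2 = 1 from Subtype.ext (by simpa using hNq y y.2), map_one]
      by_cases hcen : ∀ t : H, (∃ k, orderOf t = 2 ^ k) → ∀ x ∈ N, t * x = x * t
      · exfalso
        obtain ⟨a, ha⟩ := hidx
        have hNK : N ≤ genBy 2 H := fun x hx => by
          have h1 : x ^ (p ^ a) ∈ genBy 2 H := ha ▸ pow_index_mem _ x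
          have hcop : Nat.Coprime (orderOf x) (p ^ a) :=
            ((Nat.coprime_primes hq hp.out).2 hqp).pow_right a |>.coprime_dvd_left
              (orderOf_dvd_of_pow_eq_one (hNq x hx))
          obtain ⟨r, hr⟩ := exists_pow_eq_self_of_coprime hcop.symm
          exact hr ▸ pow_mem h1 r
        refine hNM0 (hNK.trans ?_)
        rw [closure_le]
        rintro t ⟨k, hk⟩
        obtain ⟨x, hx, m, hm, rfl⟩ := mem_sup_of_normal_left.1 (hNM ▸ mem_top t : t ∈ N ⊔ M)
        have hc : Commute x m :=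
          mul_left_cancel (a := x) (by rw [← mul_assoc x m x, hcen _ ⟨k, hk⟩ x hx])
        have h1 : x ^ (2 ^ k) * m ^ (2 ^ k) = 1 := by
          rw [← hc.mul_pow, ← hk, pow_orderOf_eq_one]
        have h2 : x ^ (2 ^ k) ∈ N ⊓ M :=
          Subgroup.mem_inf.2 ⟨pow_mem hx _, eq_inv_of_mul_eq_one_left h1 ▸ inv_mem (pow_mem hm _)⟩
        rw [hdisj, mem_bot] at h2
        have h3 : orderOf x ∣ Nat.gcd (2 ^ k) q :=
          Nat.dvd_gcd (orderOf_dvd_of_pow_eq_one h2) (orderOf_dvd_of_pow_eq_one (hNq x hx))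
        rw [((Nat.coprime_primes Nat.prime_two hq).2 (Ne.symm hq2)).pow_left k, Nat.dvd_one,
          orderOf_eq_one_iff] at h3
        rwa [h3, one_mul]
      · push Not at hcen
        obtain ⟨t, ⟨k, hk⟩, hne⟩ := hcen
        exact exists_inverted hab hk hne
    -- move the element into `M`
    obtain ⟨x0, hx0, s, hs, rfl⟩ := mem_sup_of_normal_left.1 (hNM ▸ mem_top s0 : s0 ∈ N ⊔ M)
    have hs' : ∀ x, μ (MulAut.conjNormal s x) = (μ x)⁻¹ := fun x => by
      rw [← hs0]
      congr 1
      apply Subtype.ext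
      simp only [MulAut.conjNormal_apply]
      have h := hab x0 hx0 _ (hNn.conj_mem x x.2 s)
      rw [show x0 * s * (x : H) * (x0 * s)⁻¹ = x0 * (s * x * s⁻¹) * x0⁻¹ by group, h,
        mul_inv_cancel_right]
    obtain ⟨T, hT⟩ : ∃ T, Char.inertia (fun y : ↥N => (μ y : ℂ)) = T := ⟨_, rfl⟩
    have hTm : ∀ g, g ∈ T ↔ Fixes μ g := fun g => hT ▸ mem_inertia_hom μ g
    have hNT : N ≤ T :=
      hT ▸ Char.le_inertia (Char.IsIrrCharacter.isClassFunction (Char.isIrrCharacter_ofHom μ))
    have hsT : ∀ g, g ∈ T → s * g * s⁻¹ ∈ T ∧ s⁻¹ * g * s ∈ T := fun g hg => by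
      have hg' := (hTm g).1 hg
      have hinv : ∀ x, μ (MulAut.conjNormal s⁻¹ x) = (μ x)⁻¹ := fun x => by
        have := hs' (MulAut.conjNormal s⁻¹ x)
        rw [← MulAut.mul_apply, ← map_mul, mul_inv_cancel, map_one, MulAut.one_apply] at this
        rw [this, inv_inv]
      refine ⟨(hTm _).2 fun x => ?_, (hTm _).2 fun x => ?_⟩
      · rw [map_mul, map_mul, MulAut.mul_apply, MulAut.mul_apply, hs', hg', hinv, inv_inv]
      · rw [map_mul, map_mul, MulAut.mul_apply, MulAut.mul_apply, hinv, hg', hs', inv_inv]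
    have hsA : ∀ a, s * a * s⁻¹ ∈ T ⊓ M ↔ a ∈ T ⊓ M := by
      intro a
      simp only [Subgroup.mem_inf]
      refine ⟨fun h => ⟨?_, ?_⟩, fun h => ⟨(hsT a h.1).1, mul_mem (mul_mem hs h.2) (inv_mem hs)⟩⟩
      · simpa [mul_assoc] using (hsT _ h.1).2
      · simpa [mul_assoc] using mul_mem (mul_mem (inv_mem hs) h.2) hs
    have hsup : N ⊔ (T ⊓ M) = T := by
      refine le_antisymm (sup_le hNT inf_le_left) fun g hg => ?_
      obtain ⟨x, hx, m, hm, rfl⟩ := mem_sup_of_normal_left.1 (hNM ▸ mem_top g : g ∈ N ⊔ M)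
      exact mul_mem (mem_sup_left hx) (mem_sup_right ⟨(mul_mem_cancel_left (hNT hx)).1 hg, hm⟩)
    obtain ⟨χ, hχ, hχr, hχd⟩ := exists_real_over_inverted μ (A := T ⊓ M)
      (fun a ha => (hTm a).1 ha.1)
      (eq_bot_iff.2 fun y hy => hdisj ▸ Subgroup.mem_inf.2 ⟨hy.1, hy.2.2⟩) s hs' hsA
      (by rw [hsup, hT, relIndex_self]; exact odd_one)
    obtain ⟨d, -, hd⟩ := Char.IsIrrCharacter.exists_degree hχ
    have hpT : ¬ p ∣ T.index := fun h => hreal χ hχ hχr d hd (h.trans (hT ▸ (hχd d hd).1))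
    -- hence the Sylow subgroup fixes `μ`
    have hPT : (P : Subgroup H) ≤ T := by
      obtain ⟨R⟩ := (inferInstance : Nonempty (Sylow p ↥T))
      have hRc : ¬ p ∣ ((R : Subgroup ↥T).map T.subtype).index := by
        rw [index_map_subtype]
        exact fun h => (hp.out.dvd_mul.1 h).elim R.not_dvd_index hpT
      let R' : Sylow p H := (R.isPGroup'.map T.subtype).toSylow hRc
      obtain ⟨g, hg⟩ := MulAction.exists_smul_eq H P R'
      obtain ⟨x, hx, m, hm, rfl⟩ := mem_sup_of_normal_left.1 (hNM ▸ mem_top g : g ∈ N ⊔ M)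
      intro y hy
      have hy1 : m * y * m⁻¹ ∈ (P : Subgroup H) := (mem_normalizer_iff.1 (hMdef ▸ hm) y).1 hy
      have hz : ∀ z ∈ (P : Subgroup H), z ∈ T := fun z hz => by
        have h1 : (x * m) * (m⁻¹ * z * m) * (x * m)⁻¹ ∈ (R' : Subgroup H) := by
          rw [← hg, Sylow.coe_subgroup_smul, mem_pointwise_smul_iff_inv_smul_mem]
          have h2 : m⁻¹ * z * m ∈ (P : Subgroup H) := by
            simpa using (mem_normalizer_iff.1 (inv_mem (hMdef ▸ hm)) z).1 hz
          simpa [mul_assoc] using h2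
        have h3 : (x * m) * (m⁻¹ * z * m) * (x * m)⁻¹ = x * z * x⁻¹ := by group
        obtain ⟨r, -, hr⟩ := h1
        rw [h3] at hr
        have h4 : x * z * x⁻¹ ∈ T := hr ▸ r.2
        simpa [mul_assoc] using mul_mem (mul_mem (inv_mem (hNT hx)) h4) (hNT hx)
      exact hz y hy
    have hWT : W ≤ T := hWdef ▸ sup_le hPT hNT
    have hcomm : ⁅N, W⁆ = N := by
      refine (hmin _ inferInstance (commutator_le_left N W)).resolve_left fun h => hNM0 ?_
      rw [commutator_eq_bot_iff_le_centralizer] at h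
      intro y hy
      rw [hMdef]
      exact centralizer_le_normalizer _ (centralizer_le (SetLike.coe_subset_coe.2 (hWdef ▸ le_sup_left)) (h hy))
    refine hμ1 (MonoidHom.ext fun x => ?_)
    have hker : ⁅N, W⁆ ≤ μ.ker.map N.subtype := by
      rw [Subgroup.commutator_le]
      intro a ha b hb
      refine ⟨⟨a, ha⟩ * MulAut.conjNormal b ⟨a, ha⟩⁻¹, ?_, ?_⟩
      · rw [SetLike.mem_coe, MonoidHom.mem_ker, map_mul, (hTm b).1 (hWT hb), map_inv, mul_inv_cancel]
      · simp [commutatorElement_def, mul_assoc]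
    obtain ⟨y, hy, hyx⟩ := hker (hcomm.symm ▸ x.2 : (x : H) ∈ ⁅N, W⁆)
    rw [show x = y from Subtype.ext hyx.symm, MonoidHom.one_apply]
    exact hy

end CfsgLib.RealDegree
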