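import Cfsg.Agent.FGSB.RealDegree.NormalSylow
import Cfsg.Agent.GlaubermanCorr.Main
import Cfsg.Agent.FGSB.RealOdd
import Cfsg.Agent.S4866

/-!
# Sylow normalisers meet every real class
-/

set_option autoImplicit false
set_option linter.style.haveILetI false

namespace CfsgLib.RealDegree

open Subgroup GlaubermanCorr Cfsg
open scoped ComplexConjugate

universe u

variable {p : ℕ} [hp : Fact p.Prime]

/-- A real element lies in the subgroup generated by the 2-elements and is real there. -/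
theorem real_mem_genBy {G : Type u} [Group G] [Finite G] {x : G} (hx : IsConj x x⁻¹) :
    ∃ h : x ∈ genBy 2 G, IsConj (⟨x, h⟩ : ↥(genBy 2 G)) (⟨x, h⟩ : ↥(genBy 2 G))⁻¹ := by
  haveI : Fact (Nat.Prime 2) := ⟨Nat.prime_two⟩
  obtain ⟨t, ⟨k, hk⟩, ht⟩ := RealOdd.exists_two_inverter hx
  have htK : t ∈ genBy 2 G := mem_genBy hk
  have hsq : x * x ∈ genBy 2 G := by
    have h1 : t * x * t⁻¹ * x⁻¹ ∈ genBy 2 G := by
      rw [show t * x * t⁻¹ * x⁻¹ = t * (x * t⁻¹ * x⁻¹) by group]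
      exact mul_mem htK ((genBy_normal (G := G) 2).conj_mem _ (inv_mem htK) x)
    rw [ht] at h1
    simpa [mul_assoc] using inv_mem h1
  exact ⟨Char.OddIndex.mem_of_sq_mem genBy_two_index_odd hsq,
    isConj_iff.2 ⟨⟨t, htK⟩, Subtype.ext (by simpa using ht)⟩⟩

set_option maxHeartbeats 1600000 in
/-- The case where the subgroup generated by the 2-elements has order prime to `p`. -/
theorem exists_conj_mem_normalizer_of_coprime {G : Type u} [Group G] [Finite G]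
    (hreal : RealPrime p G) (hcop : ¬ p ∣ Nat.card ↥(genBy 2 G)) (P : Sylow p G) {x : G}
    (hx : IsConj x x⁻¹) :
    ∃ g, g * x * g⁻¹ ∈ normalizer ((P : Subgroup G) : Set G) := by
  classical
  haveI := Fintype.ofFinite G
  haveI : Fact (Nat.Prime 2) := ⟨Nat.prime_two⟩
  obtain ⟨hxK, hxr⟩ := real_mem_genBy hx
  obtain ⟨K, hKdef⟩ : ∃ K, K = genBy 2 G := ⟨_, rfl⟩
  haveI hKn : K.Normal := hKdef ▸ genBy_normal 2
  have hKodd : Odd K.index := hKdef ▸ genBy_two_index_odd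
  replace hcop : ¬ p ∣ Nat.card ↥K := hKdef ▸ hcop
  obtain ⟨hxK, hxr⟩ : ∃ h : x ∈ K, IsConj (⟨x, h⟩ : ↥K) (⟨x, h⟩ : ↥K)⁻¹ := by
    subst hKdef; exact ⟨hxK, hxr⟩
  obtain ⟨N, hNdef⟩ : ∃ N, N = normalizer ((P : Subgroup G) : Set G) := ⟨_, rfl⟩
  rw [← hNdef]
  have hPN : (P : Subgroup G) ≤ N := hNdef ▸ le_normalizer
  have hN : ∀ n ∈ N, ∀ y, y ∈ (P : Subgroup G) ↔ n * y * n⁻¹ ∈ (P : Subgroup G) := fun n hn =>
    mem_normalizer_iff.1 (hNdef ▸ hn)
  have hPK : ∀ z ∈ (P : Subgroup G), z ∈ K → z = 1 := fun z hz hzK => by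
    obtain ⟨k, hk⟩ := IsPGroup.iff_orderOf.1 P.isPGroup' ⟨z, hz⟩
    rw [Subgroup.orderOf_mk] at hk
    have h1 : orderOf z ∣ Nat.card ↥K := orderOf_mk z hzK ▸ orderOf_dvd_natCard _
    rcases Nat.eq_zero_or_pos k with rfl | hk0
    · exact orderOf_eq_one_iff.1 (by rw [hk, pow_zero])
    · exact absurd ((dvd_pow_self p hk0.ne').trans (hk ▸ h1)) hcop
  set C := K ⊓ N with hC
  have hCK : C ≤ K := inf_le_left
  have hcen : ∀ c ∈ C, ∀ y ∈ (P : Subgroup G), y * c = c * y := by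
    intro c hc y hy
    have h1 : y * c * y⁻¹ * c⁻¹ = 1 := by
      refine hPK _ ?_ (mul_mem (hKn.conj_mem c hc.1 y) (inv_mem hc.1))
      rw [show y * c * y⁻¹ * c⁻¹ = y * (c * y⁻¹ * c⁻¹) by group]
      exact mul_mem hy ((hN c hc.2 _).1 (inv_mem hy))
    exact mul_inv_eq_iff_eq_mul.1 (mul_inv_eq_one.1 h1)
  have hCchar : ∀ k, k ∈ C ↔ k ∈ K ∧ ∀ y ∈ (P : Subgroup G), y * k * y⁻¹ * k⁻¹ ∈ (⊥ : Subgroup G) := by
    intro k
    refine ⟨fun hk => ⟨hk.1, fun y hy => ?_⟩, fun ⟨hk, h⟩ => ⟨hk, ?_⟩⟩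
    · rw [mem_bot, hcen k hk y hy, mul_inv_cancel_right, mul_inv_cancel]
    · have hc : ∀ y ∈ (P : Subgroup G), y * k = k * y := fun y hy =>
        mul_inv_eq_iff_eq_mul.1 (mul_inv_eq_one.1 (mem_bot.1 (h y hy)))
      exact hNdef ▸ centralizer_le_normalizer _ (mem_centralizer_iff.2 fun y hy => hc y hy)
  haveI := Fintype.ofFinite ↥K
  haveI := Fintype.ofFinite ↥C
  obtain ⟨f, hf, hm⟩ := exists_correspondence (p := p) (Q := ⊥) (C := C) P.isPGroup' bot_le
    (fun k _ q hq => by rw [mem_bot.1 hq]; simp) IsPGroup.of_bot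
    (by rwa [relIndex_bot_left]) (fun y _ k hk => hKn.conj_mem k hk y) hCK hCchar
  -- `f` commutes with maps preserving the multiplicities
  have hequiv : ∀ χ χ' ξ', (∀ m : ℕ, classInner (fun c : ↥C => (χ.1 : ↥K → ℂ) ⟨c, hCK c.2⟩)
      ((f χ).1 : ↥C → ℂ) = m → classInner (fun c : ↥C => (χ'.1 : ↥K → ℂ) ⟨c, hCK c.2⟩)
      (ξ'.1 : ↥C → ℂ) = m) → f χ' = ξ' := by
    intro χ χ' ξ' h
    obtain ⟨m, hm1, hm2, -⟩ := hm χ (f χ)
    obtain ⟨m', hm1', -, hm3'⟩ := hm χ' ξ'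
    by_contra hne
    have h1 := h m hm1
    rw [hm1', Nat.cast_inj] at h1
    subst h1
    have h2 := hm2 rfl
    rw [hm3' (Ne.symm hne), zero_pow (by norm_num)] at h2
    exact zero_ne_one h2
  have hinvC : ∀ ξ : IrrCharacter ↥C, Inv C (P : Subgroup G) (ξ : ↥C → ℂ) := fun ξ y hy k k' hk => by
    rw [show k' = k from Subtype.ext (by rw [hk, hcen k k.2 y hy, mul_inv_cancel_right])]
  -- complex conjugation
  have hconj : ∀ χ : {χ : IrrCharacter ↥K // Inv K (P : Subgroup G) (χ : ↥K → ℂ)},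
      (∀ c, (((f χ).1 : ↥C → ℂ) c).im = 0) → ∀ k, ((χ.1 : ↥K → ℂ) k).im = 0 := by
    intro χ hr
    let χ' : {χ : IrrCharacter ↥K // Inv K (P : Subgroup G) (χ : ↥K → ℂ)} :=
      ⟨⟨fun k => conj ((χ.1 : ↥K → ℂ) k), Char.IsIrrCharacter.conj χ.1.2⟩,
        fun y hy k k' hk => congrArg conj (χ.2 y hy k k' hk)⟩
    have h1 : f χ' = f χ := by
      refine hequiv χ χ' _ fun m h => ?_
      have hreal' : ((f χ).1 : ↥C → ℂ) = fun c => conj (((f χ).1 : ↥C → ℂ) c) :=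
        funext fun c => (Complex.conj_eq_iff_im.2 (hr c)).symm
      rw [hreal', Char.classInner_conj_conj (fun c : ↥C => (χ.1 : ↥K → ℂ) ⟨c, hCK c.2⟩),
        ← Char.classInner_conj, h, Complex.conj_natCast]
    intro k
    exact Complex.conj_eq_iff_im.1
      (congrFun (congrArg (fun z : {χ : IrrCharacter ↥K // Inv K (P : Subgroup G) (χ : ↥K → ℂ)} =>
        (z.1 : ↥K → ℂ)) (hf.1 h1)) k)
  have hconj' : ∀ χ : {χ : IrrCharacter ↥K // Inv K (P : Subgroup G) (χ : ↥K → ℂ)},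
      (∀ k, ((χ.1 : ↥K → ℂ) k).im = 0) → ∀ c, (((f χ).1 : ↥C → ℂ) c).im = 0 := by
    intro χ hr c
    let ξ' : {ξ : IrrCharacter ↥C // Inv C (P : Subgroup G) (ξ : ↥C → ℂ)} :=
      ⟨⟨fun c => conj (((f χ).1 : ↥C → ℂ) c), Char.IsIrrCharacter.conj (f χ).1.2⟩, hinvC _⟩
    have h1 : f χ = ξ' := by
      refine hequiv χ χ _ fun m h => ?_
      have hreal' : (fun c : ↥C => (χ.1 : ↥K → ℂ) ⟨c, hCK c.2⟩) =
          fun c : ↥C => conj ((χ.1 : ↥K → ℂ) ⟨c, hCK c.2⟩) :=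
        funext fun c => (Complex.conj_eq_iff_im.2 (hr _)).symm
      rw [hreal', Char.classInner_conj_conj _ ((f χ).1 : ↥C → ℂ), ← Char.classInner_conj, h,
        Complex.conj_natCast]
    exact Complex.conj_eq_iff_im.1
      (congrFun (congrArg (fun z : {ξ : IrrCharacter ↥C // Inv C (P : Subgroup G) (ξ : ↥C → ℂ)} =>
        (z.1 : ↥C → ℂ)) h1) c).symm
  -- the normaliser and its subgroup
  set D := K.subgroupOf N with hD
  have hDodd : Odd D.index := hKodd.of_dvd_nat (relIndex_dvd_index_of_normal K N)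
  let e : ↥D ≃* ↥C :=
    { toFun := fun d => ⟨((d : ↥N) : G), mem_subgroupOf.1 d.2, (d : ↥N).2⟩
      invFun := fun c => ⟨⟨c, c.2.2⟩, mem_subgroupOf.2 c.2.1⟩
      left_inv := fun _ => rfl
      right_inv := fun _ => rfl
      map_mul' := fun _ _ => rfl }
  let back : {ξ : IrrCharacter ↥D // ∀ d : ↥D, ((ξ : ↥D → ℂ) d).im = 0} →
      {χ : IrrCharacter ↥K // ∀ k : ↥K, ((χ : ↥K → ℂ) k).im = 0} := fun ξ =>
    ⟨((Equiv.ofBijective f hf).symm ⟨⟨fun c => (ξ.1 : ↥D → ℂ) (e.symm c),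
        Char.IsIrrCharacter.comp_surjective ξ.1.2 e.symm.toMonoidHom e.symm.surjective⟩, hinvC _⟩).1,
      hconj _ fun c => by
        rw [← Equiv.ofBijective_apply f hf, Equiv.apply_symm_apply]
        exact ξ.2 _⟩
  have hback : ∀ (ξ : {ξ : IrrCharacter ↥D // ∀ d : ↥D, ((ξ : ↥D → ℂ) d).im = 0})
      (χ : {χ : IrrCharacter ↥K // Inv K (P : Subgroup G) (χ : ↥K → ℂ)}),
      (∀ c, ((f χ).1 : ↥C → ℂ) c = (ξ.1 : ↥D → ℂ) (e.symm c)) → (back ξ).1 = χ.1 := by
    intro ξ χ h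
    show Subtype.val ((Equiv.ofBijective f hf).symm _) = χ.1
    rw [(Equiv.ofBijective f hf).symm_apply_eq.2]
    exact Subtype.ext (Subtype.ext (funext fun c => (h c).symm))
  have hB : Nat.card (Quot (fun θ η : {θ : IrrCharacter ↥K // (∀ k : ↥K, ((θ : ↥K → ℂ) k).im = 0)} =>
      ∃ g : G, ∀ k k' : ↥K, (k' : G) = g * (k : G) * g⁻¹ → (η.1 : ↥K → ℂ) k' = (θ.1 : ↥K → ℂ) k)) ≤
      Nat.card (Quot (fun θ η : {θ : IrrCharacter ↥D // (∀ k : ↥D, ((θ : ↥D → ℂ) k).im = 0)} =>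
      ∃ g : ↥N, ∀ k k' : ↥D, (k' : ↥N) = g * (k : ↥N) * g⁻¹ →
        (η.1 : ↥D → ℂ) k' = (θ.1 : ↥D → ℂ) k)) := by
    haveI : Finite {θ : IrrCharacter ↥D // ∀ k : ↥D, ((θ : ↥D → ℂ) k).im = 0} := by
      haveI := Char.finite_irrCharacter ↥D
      infer_instance
    refine Nat.card_le_card_of_surjective (Quot.lift (fun ξ => Quot.mk _ (back ξ)) ?_) ?_
    · rintro ξ η ⟨n, hn⟩
      refine Quot.sound ⟨(n : G), ?_⟩
      set χ := (Equiv.ofBijective f hf).symm ⟨⟨fun c => (ξ.1 : ↥D → ℂ) (e.symm c),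
        Char.IsIrrCharacter.comp_surjective ξ.1.2 e.symm.toMonoidHom e.symm.surjective⟩, hinvC _⟩
        with hχ
      let α : ↥K ≃* ↥K := MulAut.conjNormal (n : G)⁻¹
      have hα : ∀ k : ↥K, ((α k : ↥K) : G) = (n : G)⁻¹ * k * n := fun k => by
        simp [α, MulAut.conjNormal_apply]
      let β : ↥C ≃* ↥C :=
        { toFun := fun c => ⟨(n : G)⁻¹ * c * n, by simpa using hKn.conj_mem _ c.2.1 (n : G)⁻¹,
            N.mul_mem (N.mul_mem (N.inv_mem n.2) c.2.2) n.2⟩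
          invFun := fun c => ⟨(n : G) * c * (n : G)⁻¹, hKn.conj_mem _ c.2.1 (n : G),
            N.mul_mem (N.mul_mem n.2 c.2.2) (N.inv_mem n.2)⟩
          left_inv := fun c => Subtype.ext (by simp [mul_assoc])
          right_inv := fun c => Subtype.ext (by simp [mul_assoc])
          map_mul' := fun a b => Subtype.ext (by simp [mul_assoc]) }
      let χ' : {χ : IrrCharacter ↥K // Inv K (P : Subgroup G) (χ : ↥K → ℂ)} :=
        ⟨⟨fun k => (χ.1 : ↥K → ℂ) (α k),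
          Char.IsIrrCharacter.comp_surjective χ.1.2 α.toMonoidHom α.surjective⟩, fun y hy k k' hk => by
            refine χ.2 ((n : G)⁻¹ * y * n) ?_ (α k) (α k') ?_
            · simpa using (hN _ (inv_mem n.2) y).1 hy
            · rw [hα, hα, hk]; group⟩
      have hfχ : ∀ c, ((f χ).1 : ↥C → ℂ) c = (ξ.1 : ↥D → ℂ) (e.symm c) := fun c => by
        rw [hχ, ← Equiv.ofBijective_apply f hf, Equiv.apply_symm_apply]
      have h1 : f χ' = ⟨⟨fun c => ((f χ).1 : ↥C → ℂ) (β c),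
          Char.IsIrrCharacter.comp_surjective (f χ).1.2 β.toMonoidHom β.surjective⟩, hinvC _⟩ := by
        refine hequiv χ χ' _ fun m h => ?_
        rw [← h, ← Char.classInner_comp_mulEquiv β (fun c : ↥C => (χ.1 : ↥K → ℂ) ⟨c, hCK c.2⟩)]
        congr 1
        funext c
        show (χ.1 : ↥K → ℂ) (α ⟨c, hCK c.2⟩) = _
        exact congrArg _ (Subtype.ext (hα _))
      have h2 : (back η).1 = χ'.1 := by
        refine hback η χ' fun c => ?_
        rw [h1]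
        show ((f χ).1 : ↥C → ℂ) (β c) = _
        rw [hfχ]
        refine (hn (e.symm (β c)) (e.symm c) ?_).symm
        apply Subtype.ext
        simp [e, β, mul_assoc]
      intro k k' hk
      rw [h2]
      show (χ.1 : ↥K → ℂ) (α k') = ((back ξ).1 : ↥K → ℂ) k
      rw [hback ξ χ hfχ]
      exact congrArg _ (Subtype.ext (by rw [hα, hk]; group))
    · intro q
      induction q using Quot.ind with | _ θ =>
      obtain ⟨d, -, hd⟩ := Char.IsIrrCharacter.exists_degree θ.1.2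
      have horb := hreal.dvd_of_under hKodd θ.1.2 θ.2 hd
      obtain ⟨T, hT⟩ : ∃ T, Char.inertia (θ.1 : ↥K → ℂ) = T := ⟨_, rfl⟩
      rw [hT] at horb
      obtain ⟨R⟩ := (inferInstance : Nonempty (Sylow p ↥T))
      have hR : ¬ p ∣ ((R : Subgroup ↥T).map T.subtype).index := by
        rw [index_map_subtype]
        exact fun h => (hp.out.dvd_mul.1 h).elim R.not_dvd_index
          fun h' => horb (h'.mul_left d)
      let R' : Sylow p G := (R.isPGroup'.map T.subtype).toSylow hR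
      obtain ⟨g, hg⟩ := MulAction.exists_smul_eq G P R'
      let χ : {χ : IrrCharacter ↥K // Inv K (P : Subgroup G) (χ : ↥K → ℂ)} :=
        ⟨⟨Char.conjOn g (θ.1 : ↥K → ℂ), Char.isIrrCharacter_conjOn θ.1.2 g⟩, fun y hy k k' hk => by
          have hgy : g * y * g⁻¹ ∈ Char.inertia (θ.1 : ↥K → ℂ) := by
            have h1 : g * y * g⁻¹ ∈ (R' : Subgroup G) := by
              rw [← hg, Sylow.coe_subgroup_smul, mem_pointwise_smul_iff_inv_smul_mem]
              simpa [mul_assoc] using hy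
            obtain ⟨r, -, hr⟩ := h1
            rw [hT, ← hr]
            exact r.2
          show Char.conjOn g (θ.1 : ↥K → ℂ) k' = Char.conjOn g (θ.1 : ↥K → ℂ) k
          rw [Char.conjOn_apply, Char.conjOn_apply,
            ← (Char.mem_inertia_iff (θ.1 : ↥K → ℂ) _).1 hgy ⟨g * k * g⁻¹, hKn.conj_mem k k.2 g⟩]
          exact congrArg _ (Subtype.ext (by simp only [hk]; group))⟩
      have hχr : ∀ k, ((χ.1 : ↥K → ℂ) k).im = 0 := fun k => θ.2 _
      let ξ : {ξ : IrrCharacter ↥D // ∀ d : ↥D, ((ξ : ↥D → ℂ) d).im = 0} :=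
        ⟨⟨fun d => ((f χ).1 : ↥C → ℂ) (e d),
          Char.IsIrrCharacter.comp_surjective (f χ).1.2 e.toMonoidHom e.surjective⟩,
          fun d => hconj' χ hχr _⟩
      refine ⟨Quot.mk _ ξ, Quot.sound ⟨g, fun k k' hk => ?_⟩⟩
      rw [hback ξ χ fun c => by simp [ξ]]
      show (θ.1 : ↥K → ℂ) k' = Char.conjOn g (θ.1 : ↥K → ℂ) k
      rw [Char.conjOn_apply]
      exact congrArg _ (Subtype.ext hk)
  -- the map on classes
  let φ : Quot (fun a b : {d : ↥D // IsConj d d⁻¹} => ∃ n : ↥N, (b.1 : ↥N) = n * a.1 * n⁻¹) →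
      Quot (fun a b : {k : ↥K // IsConj k k⁻¹} => ∃ g : G, (b.1 : G) = g * a.1 * g⁻¹) :=
    Quot.lift (fun a => Quot.mk _ ⟨⟨((a.1 : ↥N) : G), mem_subgroupOf.1 a.1.2⟩, by
      obtain ⟨c, hc⟩ := isConj_iff.1 a.2
      exact isConj_iff.2 ⟨⟨((c : ↥N) : G), mem_subgroupOf.1 c.2⟩,
        Subtype.ext (congrArg (fun z : ↥D => ((z : ↥N) : G)) hc)⟩⟩)
      fun a b ⟨n, hn⟩ => Quot.sound ⟨(n : G), congrArg Subtype.val hn⟩
  have hinj : Function.Injective φ := by
    intro a b hab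
    induction a using Quot.ind with | _ a =>
    induction b using Quot.ind with | _ b =>
    have heqv : Equivalence (fun a b : {k : ↥K // IsConj k k⁻¹} =>
        ∃ g : G, (b.1 : G) = g * a.1 * g⁻¹) := by
      refine ⟨fun a => ⟨1, by simp⟩, ?_, ?_⟩
      · rintro a b ⟨g, hg⟩
        exact ⟨g⁻¹, by rw [hg]; group⟩
      · rintro a b c ⟨g, hg⟩ ⟨h, hh⟩
        exact ⟨h * g, by rw [hh, hg]; group⟩
    obtain ⟨g, hg⟩ := heqv.eqvGen_iff.1 (Quot.eqvGen_exact hab)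
    set z : G := ((b.1 : ↥N) : G) with hz
    change z = g * ((a.1 : ↥N) : G) * g⁻¹ at hg
    have hPz : (P : Subgroup G) ≤ centralizer ({z} : Set G) := fun y hy =>
      mem_centralizer_singleton_iff.2 (hcen z ⟨mem_subgroupOf.1 b.1.2, (b.1 : ↥N).2⟩ y hy)
    have hQz : ((g • P : Sylow p G) : Subgroup G) ≤ centralizer ({z} : Set G) := fun y hy => by
      rw [Sylow.coe_subgroup_smul, mem_pointwise_smul_iff_inv_smul_mem] at hy
      have h1 : g⁻¹ * y * g ∈ (P : Subgroup G) := by simpa using hy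
      have h2 := hcen ((a.1 : ↥N) : G) ⟨mem_subgroupOf.1 a.1.2, (a.1 : ↥N).2⟩ _ h1
      rw [mem_centralizer_singleton_iff, hg]
      calc y * (g * ((a.1 : ↥N) : G) * g⁻¹) = g * (g⁻¹ * y * g * (a.1 : ↥N)) * g⁻¹ := by group
        _ = g * ((a.1 : ↥N) * (g⁻¹ * y * g)) * g⁻¹ := by rw [h2]
        _ = g * ((a.1 : ↥N) : G) * g⁻¹ * y := by group
    obtain ⟨c, hc⟩ := MulAction.exists_smul_eq ↥(centralizer ({z} : Set G))
      ((g • P : Sylow p G).subtype hQz) (P.subtype hPz)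
    rw [Sylow.smul_subtype] at hc
    have hcg : (c : G) * g ∈ N := by
      rw [hNdef]
      refine Sylow.smul_eq_iff_mem_normalizer.1 ?_
      rw [mul_smul]
      exact Sylow.subtype_injective hc
    refine Quot.sound ⟨⟨(c : G) * g, hcg⟩, Subtype.ext ?_⟩
    show z = (c : G) * g * ((a.1 : ↥N) : G) * ((c : G) * g)⁻¹
    rw [show (c : G) * g * ((a.1 : ↥N) : G) * ((c : G) * g)⁻¹ =
      (c : G) * (g * ((a.1 : ↥N) : G) * g⁻¹) * (c : G)⁻¹ by group, ← hg,
      mem_centralizer_singleton_iff.1 c.2, mul_inv_cancel_right]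
  have hle := (Cfsg.Agent.S4866.result D hDodd ▸
    (Cfsg.Agent.S4866.result K hKodd ▸ hB : _ ≤ _) : _ ≤ _)
  obtain ⟨q, hq⟩ := ((Nat.bijective_iff_injective_and_card φ).2
    ⟨hinj, le_antisymm (Nat.card_le_card_of_injective φ hinj) hle⟩).2
    (Quot.mk _ ⟨⟨x, hxK⟩, hxr⟩)
  induction q using Quot.ind with | _ a =>
  have heqv : Equivalence (fun a b : {k : ↥K // IsConj k k⁻¹} =>
      ∃ g : G, (b.1 : G) = g * a.1 * g⁻¹) := by
    refine ⟨fun a => ⟨1, by simp⟩, ?_, ?_⟩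
    · rintro a b ⟨g, hg⟩
      exact ⟨g⁻¹, by rw [hg]; group⟩
    · rintro a b c ⟨g, hg⟩ ⟨h, hh⟩
      exact ⟨h * g, by rw [hh, hg]; group⟩
  obtain ⟨g, hg⟩ := heqv.eqvGen_iff.1 (Quot.eqvGen_exact hq)
  refine ⟨g⁻¹, ?_⟩
  change x = g * ((a.1 : ↥N) : G) * g⁻¹ at hg
  rw [hg, show g⁻¹ * (g * ((a.1 : ↥N) : G) * g⁻¹) * g⁻¹⁻¹ = ((a.1 : ↥N) : G) by group]
  exact (a.1 : ↥N).2

/-- The Sylow normaliser meets every real class. -/
theorem exists_conj_mem_normalizer {G : Type u} [Group G] [Finite G]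
    (hsol : Group.IsSolvable ↥(genBy p G)) (hreal : RealPrime p G) (P : Sylow p G) {x : G}
    (hx : IsConj x x⁻¹) :
    ∃ g, g * x * g⁻¹ ∈ normalizer ((P : Subgroup G) : Set G) := by
  haveI : Fact (Nat.Prime 2) := ⟨Nat.prime_two⟩
  obtain ⟨Q⟩ := (inferInstance : Nonempty (Sylow p ↥(genBy 2 G)))
  have hidx : genBy 2 ↥(genBy 2 G) = ⊤ := by
    apply map_injective (subtype_injective (genBy 2 G))
    rw [genBy_subtype le_rfl, ← MonoidHom.range_eq_map, range_subtype]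
  have hQn := normal_sylow _ rfl (solvable_genBy_subgroup _ hsol)
    (hreal.subgroup genBy_two_index_odd) ⟨0, by rw [hidx, index_top, pow_zero]⟩ Q
  haveI := Sylow.characteristic_of_normal Q hQn
  set Q0 := (Q : Subgroup ↥(genBy 2 G)).map (genBy 2 G).subtype with hQ0
  haveI : Q0.Normal := ConjAct.normal_of_characteristic_of_normal
  have hQP : Q0 ≤ (P : Subgroup G) := by
    have hpg : IsPGroup p ↥Q0 := Q.isPGroup'.map _
    obtain ⟨R, hR⟩ := hpg.exists_le_sylow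
    obtain ⟨h, rfl⟩ := MulAction.exists_smul_eq G R P
    intro y hy
    rw [Sylow.coe_subgroup_smul, mem_pointwise_smul_iff_inv_smul_mem]
    exact hR (by simpa using (inferInstance : Q0.Normal).conj_mem y hy h⁻¹)
  let P' := P.mapSurjective (QuotientGroup.mk'_surjective Q0)
  have hcop : ¬ p ∣ Nat.card ↥(genBy 2 (G ⧸ Q0)) := by
    rw [← genBy_map (QuotientGroup.mk' Q0) (QuotientGroup.mk'_surjective Q0)]
    have h1 : Nat.card ↥((genBy 2 G).map (QuotientGroup.mk' Q0)) ∣ (Q : Subgroup ↥(genBy 2 G)).index := by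
      let ψ := (QuotientGroup.mk' Q0).subgroupMap (genBy 2 G)
      have hψ : Function.Surjective ψ := (QuotientGroup.mk' Q0).subgroupMap_surjective _
      rw [← Nat.card_congr (QuotientGroup.quotientKerEquivOfSurjective ψ hψ).toEquiv,
        ← index_eq_card]
      refine index_dvd_of_le fun a ha => ?_
      rw [MonoidHom.mem_ker]
      exact Subtype.ext ((QuotientGroup.eq_one_iff _).2 (mem_map_of_mem _ ha))
    exact fun h => Q.not_dvd_index (h.trans h1)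
  obtain ⟨g, hg⟩ := exists_conj_mem_normalizer_of_coprime (hreal.quotient Q0) hcop P'
    (x := QuotientGroup.mk' Q0 x) (by
      have := (QuotientGroup.mk' Q0).map_isConj hx
      rwa [map_inv] at this)
  obtain ⟨g, rfl⟩ := QuotientGroup.mk'_surjective Q0 g
  refine ⟨g, ?_⟩
  rw [← map_inv, ← map_mul, ← map_mul, ← mem_comap] at hg
  rw [comap_normalizer_eq_of_surjective _ (QuotientGroup.mk'_surjective Q0),
    Sylow.coe_mapSurjective, comap_map_eq, QuotientGroup.ker_mk', sup_eq_left.2 hQP] at hg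
  exact hg

end CfsgLib.RealDegree
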